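import Groth.Agent.NApproxLib.Image

/-!
# A closed subscheme of a limit is the limit of its images in the stages
-/

set_option autoImplicit false
set_option backward.isDefEq.respectTransparency false
set_option backward.defeqAttrib.useBackward true
set_option linter.style.haveILetI false
set_option linter.unusedSectionVars false

universe u

open CategoryTheory CategoryTheory.Limits AlgebraicGeometry TopologicalSpace Opposite

noncomputable section

namespace Groth.Agent.NApproxLib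

theorem appLE_appLE' {X Y Z : Scheme.{u}} (f : X ⟶ Y) (g : Y ⟶ Z) (h : X ⟶ Z) (w : f ≫ g = h) {U : Z.Opens}
    {Q : Y.Opens} {W : X.Opens} (e₁ : W ≤ f ⁻¹ᵁ Q) (e₂ : Q ≤ g ⁻¹ᵁ U) (e₃ : W ≤ h ⁻¹ᵁ U) (y : Γ(Z, U)) :
    f.appLE Q W e₁ (g.appLE U Q e₂ y) = h.appLE U W e₃ y := by
  subst w
  rw [← CommRingCat.comp_apply, Scheme.Hom.appLE_comp_appLE]

theorem appLE_map' {X Y : Scheme.{u}} (f : X ⟶ Y) {U Q : Y.Opens} {W : X.Opens} (h : Q ≤ U) (e₁ : W ≤ f ⁻¹ᵁ Q)
    (e₂ : W ≤ f ⁻¹ᵁ U) (a : Γ(Y, U)) :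
    f.appLE Q W e₁ (Y.presheaf.map (homOfLE h).op a) = X.presheaf.map (homOfLE e₂).op (f.app U a) := by
  rw [← CommRingCat.comp_apply, Scheme.Hom.map_appLE]
  rfl

variable {I : Type u} [Category.{u} I] [IsCofiltered I] (D : I ⥤ Scheme.{u}) (c : Cone D) (hc : IsLimit c)
  [∀ {i k} (a : i ⟶ k), IsAffineHom (D.map a)] [∀ i, QuasiSeparatedSpace (D.obj i)]
  {X : Scheme.{u}} [CompactSpace X] (j : X ⟶ c.pt) [IsClosedImmersion j]

instance (i : I) : QuasiCompact (j ≫ c.π.app i) := quasiCompact_of_compactSpace _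

theorem exists_imgMap {i k : I} (a : i ⟶ k) : ∃ t : (j ≫ c.π.app i).image ⟶ (j ≫ c.π.app k).image,
    t ≫ (j ≫ c.π.app k).imageι = (j ≫ c.π.app i).imageι ≫ D.map a ∧
      (j ≫ c.π.app i).toImage ≫ t = (j ≫ c.π.app k).toImage :=
  exists_image_map (j ≫ c.π.app k) (j ≫ c.π.app i) (D.map a) (by rw [Category.assoc, c.w])

/-- The images in the stages. -/
def imgSys : I ⥤ Scheme.{u} where
  obj i := (j ≫ c.π.app i).image
  map a := (exists_imgMap D c j a).choose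
  map_id i := by
    rw [← cancel_mono (j ≫ c.π.app i).imageι, (exists_imgMap D c j (𝟙 i)).choose_spec.1]
    simp
  map_comp {i k l} a b := by
    rw [← cancel_mono (j ≫ c.π.app l).imageι, (exists_imgMap D c j (a ≫ b)).choose_spec.1, Category.assoc,
      (exists_imgMap D c j b).choose_spec.1, reassoc_of% (exists_imgMap D c j a).choose_spec.1, D.map_comp]

/-- The inclusion of the images. -/
def imgι : imgSys D c j ⟶ D where
  app i := (j ≫ c.π.app i).imageι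
  naturality i k a := (exists_imgMap D c j a).choose_spec.1

instance (i : I) : IsClosedImmersion ((imgι D c j).app i) :=
  inferInstanceAs (IsClosedImmersion (j ≫ c.π.app i).imageι)

instance (i k : I) (a : i ⟶ k) : IsAffineHom ((imgSys D c j).map a) := by
  haveI : IsAffineHom ((imgSys D c j).map a ≫ (imgι D c j).app k) := by
    rw [(imgι D c j).naturality]; infer_instance
  exact IsAffineHom.of_comp _ ((imgι D c j).app k)

/-- The cone of the images. -/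
def imgCone : Cone (imgSys D c j) where
  pt := X
  π :=
    { app := fun i => (j ≫ c.π.app i).toImage
      naturality := fun i k a => by
        show 𝟙 X ≫ (j ≫ c.π.app k).toImage = (j ≫ c.π.app i).toImage ≫ (exists_imgMap D c j a).choose
        rw [Category.id_comp, (exists_imgMap D c j a).choose_spec.2] }

include hc in
theorem exists_stage_section {i : I} {V : (D.obj i).Opens} (hV : IsAffineOpen V) (z : Γ(c.pt, c.π.app i ⁻¹ᵁ V)) :
    ∃ (k : I) (V' : (D.obj k).Opens) (e : c.π.app i ⁻¹ᵁ V ≤ c.π.app k ⁻¹ᵁ V') (y : Γ(D.obj k, V')),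
      IsAffineOpen V' ∧ c.π.app k ⁻¹ᵁ V' = c.π.app i ⁻¹ᵁ V ∧ (c.π.app k).appLE V' (c.π.app i ⁻¹ᵁ V) e y = z := by
  haveI : ∀ l : Over i, IsAffine ((opensDiagram D i V).obj l) := fun l => hV.preimage (D.map l.hom)
  obtain ⟨l, t, ht⟩ := exists_appTop_π_eq_of_isAffine_of_isLimit _ _ (isLimitOpensCone D c hc i V)
    ((c.π.app i ⁻¹ᵁ V).topIso.inv z)
  have e : c.π.app l.left ⁻¹ᵁ (D.map l.hom ⁻¹ᵁ V) = c.π.app i ⁻¹ᵁ V := by
    rw [← Scheme.Hom.comp_preimage, c.w]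
  refine ⟨l.left, D.map l.hom ⁻¹ᵁ V, e.ge, (D.map l.hom ⁻¹ᵁ V).topIso.hom t, hV.preimage _, e, ?_⟩
  have h2 : (c.π.app i ⁻¹ᵁ V).topIso.hom (((opensCone D c i V).π.app l).appTop t) = z := by
    rw [ht, ← CommRingCat.comp_apply, Iso.inv_hom_id]
    rfl
  refine Eq.trans ?_ h2
  show ((D.map l.hom ⁻¹ᵁ V).topIso.hom ≫ (c.π.app l.left).appLE _ _ e.ge) t =
    (((opensCone D c i V).π.app l).appTop ≫ (c.π.app i ⁻¹ᵁ V).topIso.hom) t
  refine congrFun (congrArg DFunLike.coe (congrArg CommRingCat.Hom.hom ?_)) t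
  simp [opensCone, Scheme.Hom.resLE_appLE, Scheme.Hom.app_eq_appLE]

include hc in
theorem ker_le_ker (s : Cone (imgSys D c j)) (w : s.pt ⟶ c.pt)
    (hw : ∀ k, w ≫ c.π.app k = s.π.app k ≫ (imgι D c j).app k) : j.ker ≤ w.ker := by
  refine Scheme.IdealSheafData.le_ofIdeals_iff.mpr fun U a ha => ?_
  rw [RingHom.mem_ker]
  rw [Scheme.Hom.ker_apply, RingHom.mem_ker] at ha
  have hsmall : ∀ x : (w ⁻¹ᵁ U.1 : s.pt.Opens), ∃ W : c.pt.Opens, W ≤ U.1 ∧ w x.1 ∈ W ∧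
      ∃ (i : I) (V : (D.obj i).Opens), IsAffineOpen V ∧ c.π.app i ⁻¹ᵁ V = W := fun x => by
    obtain ⟨_, ⟨_, ⟨i, V, hV, rfl⟩, rfl⟩, hxW, hle⟩ :=
      (isBasis_preimage_isAffineOpen D c hc).exists_subset_of_mem_open (show w x.1 ∈ (U.1 : Set c.pt) from x.2) U.1.2
    exact ⟨_, hle, hxW, i, V, hV, rfl⟩
  choose W hWU hxW i V hV hVW using hsmall
  refine TopCat.Sheaf.eq_of_locally_eq' s.pt.sheaf (fun x => w ⁻¹ᵁ W x) (w ⁻¹ᵁ U.1)
    (fun x => homOfLE (Scheme.Hom.preimage_mono _ (hWU x))) (fun y hy => Opens.mem_iSup.2 ⟨⟨y, hy⟩, hxW ⟨y, hy⟩⟩)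
    _ _ fun x => ?_
  rw [map_zero]
  obtain ⟨k, V', e, y, hV', hVk, hy⟩ := exists_stage_section D c hc (hV x)
    (c.pt.presheaf.map (homOfLE ((hVW x).le.trans (hWU x))).op a)
  -- the section vanishes on the image
  have h1 : (j ≫ c.π.app k).app V' y = 0 := by
    have hW' : (j ≫ c.π.app k) ⁻¹ᵁ V' ≤ j ⁻¹ᵁ (c.π.app (i x) ⁻¹ᵁ V x) := by rw [Scheme.Hom.comp_preimage, hVk]
    have hU' : (j ≫ c.π.app k) ⁻¹ᵁ V' ≤ j ⁻¹ᵁ U.1 :=
      hW'.trans (Scheme.Hom.preimage_mono j ((hVW x).le.trans (hWU x)))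
    rw [← Scheme.Hom.appLE_eq_app]
    refine (appLE_appLE' j (c.π.app k) (j ≫ c.π.app k) rfl hW' e le_rfl y).symm.trans ?_
    refine (congrArg (j.appLE (c.π.app (i x) ⁻¹ᵁ V x) _ hW') hy).trans ((appLE_map' j _ hW' hU' a).trans ?_)
    rw [ha, map_zero]
  have h2 : (j ≫ c.π.app k).imageι.app V' y = 0 := by
    have := (Scheme.Hom.ker_apply (j ≫ c.π.app k) ⟨V', hV'⟩).symm.trans
      ((congrArg (fun J => Scheme.IdealSheafData.ideal J ⟨V', hV'⟩) (j ≫ c.π.app k).ker.ker_subschemeι.symm).trans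
        (Scheme.Hom.ker_apply (j ≫ c.π.app k).imageι ⟨V', hV'⟩))
    exact (show y ∈ RingHom.ker ((j ≫ c.π.app k).imageι.app V').hom from this ▸ h1)
  -- hence on the source of the test morphism
  show s.pt.presheaf.map _ (w.app U.1 a) = 0
  have hle : w ⁻¹ᵁ W x ≤ (w ≫ c.π.app k) ⁻¹ᵁ V' := by
    rw [Scheme.Hom.comp_preimage, hVk, hVW]
  have h4 : s.pt.presheaf.map (homOfLE (Scheme.Hom.preimage_mono w (hWU x))).op (w.app U.1 a) =
      (w ≫ c.π.app k).appLE V' (w ⁻¹ᵁ W x) hle y :=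
    ((appLE_appLE' w (c.π.app k) (w ≫ c.π.app k) rfl (by rw [hVW]) e hle y).symm.trans
      ((congrArg (w.appLE (c.π.app (i x) ⁻¹ᵁ V x) (w ⁻¹ᵁ W x) (by rw [hVW])) hy).trans
        (appLE_map' w ((hVW x).le.trans (hWU x)) _ (Scheme.Hom.preimage_mono w (hWU x)) a))).symm
  refine h4.trans ?_
  have hle' : w ⁻¹ᵁ W x ≤ (s.π.app k ≫ (imgι D c j).app k) ⁻¹ᵁ V' := by rw [← hw]; exact hle
  have h5 : (w ≫ c.π.app k).appLE V' (w ⁻¹ᵁ W x) hle y =
      (s.π.app k ≫ (imgι D c j).app k).appLE V' (w ⁻¹ᵁ W x) hle' y := by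
    congr 2
    simp only [hw]
  rw [h5, Scheme.Hom.comp_appLE, CommRingCat.comp_apply]
  show (s.π.app k).appLE _ _ _ ((j ≫ c.π.app k).imageι.app V' y) = 0
  rw [h2, map_zero]

include hc in
theorem nonempty_isLimit_imgCone : Nonempty (IsLimit (imgCone D c j)) := by
  let cs : ∀ s : Cone (imgSys D c j), Cone D := fun s => (Cone.postcompose (imgι D c j)).obj s
  let w : ∀ s : Cone (imgSys D c j), s.pt ⟶ c.pt := fun s => hc.lift (cs s)
  have hw : ∀ s k, w s ≫ c.π.app k = s.π.app k ≫ (imgι D c j).app k := fun s k => hc.fac (cs s) k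
  refine ⟨{ lift := fun s => IsClosedImmersion.lift j (w s) (ker_le_ker D c hc j s (w s) (hw s))
            fac := fun s k => ?_
            uniq := fun s m hm => ?_ }⟩
  · rw [← cancel_mono ((imgι D c j).app k)]
    show (IsClosedImmersion.lift j (w s) _ ≫ (j ≫ c.π.app k).toImage) ≫ (j ≫ c.π.app k).imageι = _
    rw [Category.assoc, Scheme.Hom.toImage_imageι, IsClosedImmersion.lift_fac_assoc, hw]
  · rw [← cancel_mono j, IsClosedImmersion.lift_fac]
    refine hc.hom_ext fun k => ?_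
    rw [hw, ← hm k, Category.assoc, Category.assoc]
    show m ≫ j ≫ c.π.app k = m ≫ (j ≫ c.π.app k).toImage ≫ (j ≫ c.π.app k).imageι
    rw [Scheme.Hom.toImage_imageι]

end Groth.Agent.NApproxLib
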