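import Groth.Agent.NApproxLib.Proper
import Groth.Agent.NApproxLib.ImageLimit
import Groth.Agent.FPModelLib.Model2
import Groth.Agent.FPModelLib.Proper
import Groth.Agent.AffLim.DescendBaseChange

/-!
# A proper morphism is a limit of proper morphisms over schemes of finite type over the integers
-/

set_option autoImplicit false
set_option backward.isDefEq.respectTransparency false
set_option backward.defeqAttrib.useBackward true
set_option linter.style.haveILetI false

universe u

open CategoryTheory CategoryTheory.Limits AlgebraicGeometry Opposite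

noncomputable section

namespace Groth.Agent.NApproxLib

/-- A proper morphism of finite presentation is the base change of a proper morphism from a stage. -/
theorem exists_proper_stage_model {I : Type u} [SmallCategory I] [IsCofiltered I] (D : I ⥤ Scheme.{u}) (c : Cone D)
    (hc : IsLimit c) [∀ {i k} (a : i ⟶ k), IsAffineHom (D.map a)] [∀ i, CompactSpace (D.obj i)]
    [∀ i, QuasiSeparatedSpace (D.obj i)] [CompactSpace c.pt] [QuasiSeparatedSpace c.pt] {P : Scheme.{u}}
    (f : P ⟶ c.pt) [IsProper f] [LocallyOfFinitePresentation f] :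
    ∃ (i : I) (G : Scheme.{u}) (g : G ⟶ D.obj i) (q : P ⟶ G), CompactSpace G ∧ QuasiSeparatedSpace G ∧
      IsProper g ∧ IsPullback q f g (c.π.app i) := by
  haveI : CompactSpace P := QuasiCompact.compactSpace_of_compactSpace f
  haveI : QuasiSeparatedSpace P := quasiSeparatedSpace_of_quasiSeparated f
  obtain ⟨i, G, g, q, hm⟩ := FPModelLib.Gen.exists_model D c hc f
  haveI := hm.compact
  haveI := hm.qs
  haveI := hm.lfp
  obtain ⟨l, φ, hl⟩ := FPModelLib.exists_proper_stage D c hc i g (𝟙 (D.obj i)) (g := 𝟙 c.pt)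
    (IsPullback.id_vert (c.π.app i)) hm.isPullback
  haveI := hl
  have hm' := hm.stage D c (Over.mk φ)
  have h1 : IsProper (pullback.snd g (D.map φ)) := by
    have : IsProper ((AffLim.baseChangeMap D i g (𝟙 (D.obj i))).app (Over.mk φ) ≫
        pullback.snd (𝟙 (D.obj i)) (D.map φ)) := inferInstance
    have e : (AffLim.baseChangeMap D i g (𝟙 (D.obj i))).app (Over.mk φ) ≫ pullback.snd (𝟙 (D.obj i)) (D.map φ) =
        (pullback.congrHom (Category.comp_id g) rfl).hom ≫ pullback.snd g (D.map φ) := by
      simp [AffLim.baseChangeMap, pullback.map]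
    rw [e] at this
    exact (MorphismProperty.cancel_left_of_respectsIso @IsProper _ _).1 this
  exact ⟨l, _, pullback.snd g (D.map φ), _, hm'.compact, hm'.qs, h1, hm'.isPullback⟩

/-- A proper morphism is a limit of proper morphisms between schemes of finite type over the integers. -/
theorem exists_proper_arrow_limit {X S : Scheme.{u}} (f : X ⟶ S) [IsProper f] [CompactSpace S]
    [QuasiSeparatedSpace S] :
    ∃ (I : Type u) (_ : SmallCategory I) (_ : IsCofiltered I) (DX DS : I ⥤ Scheme.{u}) (φ : DX ⟶ DS)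
      (pX : (Functor.const I).obj X ⟶ DX) (pS : (Functor.const I).obj S ⟶ DS) (_ : IsLimit (Cone.mk X pX))
      (_ : IsLimit (Cone.mk S pS)),
      (∀ (i j : I) (a : i ⟶ j), IsAffineHom (DX.map a) ∧ IsAffineHom (DS.map a)) ∧
      (∀ i, IsProper (φ.app i) ∧ CompactSpace (DS.obj i) ∧ IsFTZ (DS.obj i)) ∧
      ∀ i, pX.app i ≫ φ.app i = f ≫ pS.app i := by
  obtain ⟨J, _, _, _, D, c, hc, e, -, hobj⟩ := exists_proper_limit f
  let j₀ : Jᵒᵖ := op (Classical.arbitrary J)
  obtain ⟨hcl, hpr, hlfp⟩ := hobj j₀
  haveI := hcl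
  haveI := hpr
  haveI := hlfp
  haveI : IsIso e.inv.left := inferInstanceAs (IsIso ((Over.forget S).map e.inv))
  let j : X ⟶ (D.obj j₀).left := e.inv.left ≫ (c.π.app j₀).left
  have hj : j ≫ (D.obj j₀).hom = f := by
    rw [Category.assoc]
    erw [Over.w (c.π.app j₀)]
    exact Over.w e.inv
  haveI : IsClosedImmersion j := inferInstance
  obtain ⟨S₀, qS, hqS, hcS, hfS⟩ := hasFTZ S
  haveI := hqS
  haveI := hcS
  haveI := isLocallyNoetherian_of_isFTZ hfS
  obtain ⟨hS⟩ := nonempty_isLimit_cone qS
  haveI : ∀ i, CompactSpace ((sys qS).obj i) := fun i => compactSpace_stage qS i.unop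
  haveI : ∀ i, QuasiSeparatedSpace ((sys qS).obj i) := fun i => quasiSeparatedSpace_stage qS i.unop
  haveI : ∀ {i k} (a : i ⟶ k), IsAffineHom ((sys qS).map a) := fun a => inferInstance
  haveI : CompactSpace (cone qS).pt := ‹CompactSpace S›
  haveI : QuasiSeparatedSpace (cone qS).pt := ‹QuasiSeparatedSpace S›
  let fP : (D.obj j₀).left ⟶ (cone qS).pt := (D.obj j₀).hom
  haveI : IsProper fP := hpr
  haveI : LocallyOfFinitePresentation fP := hlfp
  obtain ⟨i, G, g, q, hGc, hGqs, hg, hsq⟩ := exists_proper_stage_model (sys qS) (cone qS) hS fP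
  haveI := hGc
  haveI := hGqs
  haveI := hg
  obtain ⟨hV⟩ := FlatStage.nonempty_isLimit_vCone (sys qS) (cone qS) i g hsq hS
  let E := AffLim.baseChange (sys qS) i g
  let cE := FlatStage.vCone (sys qS) (cone qS) i g hsq
  haveI : ∀ {k l : Over i} (a : k ⟶ l), IsAffineHom (E.map a) := fun a => inferInstance
  haveI : ∀ k, QuasiSeparatedSpace (E.obj k) := fun k => AffLim.quasiSeparatedSpace_baseChange (sys qS) i g k
  haveI : CompactSpace X := QuasiCompact.compactSpace_of_compactSpace f
  let j' : X ⟶ cE.pt := j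
  haveI : IsClosedImmersion j' := ‹IsClosedImmersion j›
  obtain ⟨hX⟩ := nonempty_isLimit_imgCone E cE hV j'
  let DS := Over.forget i ⋙ sys qS
  let t : E ⟶ DS :=
    { app := fun k => pullback.snd g ((sys qS).map k.hom)
      naturality := fun k l a => by simp [E, DS, AffLim.baseChange, pullback.map] }
  let φ := imgι E cE j' ≫ t
  refine ⟨Over i, inferInstance, inferInstance, imgSys E cE j', DS, φ, (imgCone E cE j').π,
    Functor.whiskerLeft (Over.forget i) (cone qS).π, hX,
    (Functor.Initial.isLimitWhiskerEquiv (Over.forget i) (cone qS)).symm hS,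
    fun k l a => ⟨inferInstance, inferInstanceAs (IsAffineHom ((sys qS).map ((Over.forget i).map a)))⟩, fun k => ⟨?_, ?_, ?_⟩, fun k => ?_⟩
  · haveI : IsProper (pullback.snd g ((sys qS).map k.hom)) := MorphismProperty.pullback_snd _ _ hg
    exact inferInstanceAs (IsProper ((imgι E cE j').app k ≫ pullback.snd g ((sys qS).map k.hom)))
  · exact compactSpace_stage qS _
  · exact isFTZ_stage qS hfS _
  · show (j' ≫ cE.π.app k).toImage ≫ (j' ≫ cE.π.app k).imageι ≫ pullback.snd g ((sys qS).map k.hom) = _
    rw [Scheme.Hom.toImage_imageι_assoc, Category.assoc]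
    show j' ≫ FlatStage.vMap (sys qS) (cone qS) i g hsq k ≫ _ = _
    rw [FlatStage.vMap_snd]
    show j ≫ (D.obj j₀).hom ≫ _ = _
    rw [reassoc_of% hj]
    rfl

end Groth.Agent.NApproxLib
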