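import Mathlib

/-!
# Affine covers by basic opens at a stage
-/

set_option autoImplicit false
set_option backward.isDefEq.respectTransparency false
set_option backward.defeqAttrib.useBackward true
set_option linter.style.haveILetI false
set_option linter.unusedSectionVars false

universe u

open CategoryTheory CategoryTheory.Limits AlgebraicGeometry TopologicalSpace

noncomputable section

namespace Groth.Agent.NApproxLib

variable {I : Type u} [Category.{u} I] [IsCofiltered I] (D : I ⥤ Scheme.{u}) (c : Cone D) (hc : IsLimit c)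
  [∀ {i j} (f : i ⟶ j), IsAffineHom (D.map f)] [∀ i, CompactSpace (D.obj i)] [∀ i, QuasiSeparatedSpace (D.obj i)]

include hc in
theorem exists_isAffineOpen_stage {i : I} (O : (D.obj i).Opens) (hO : IsCompact (O : Set (D.obj i)))
    (haff : IsAffineOpen (c.π.app i ⁻¹ᵁ O)) : ∃ (j : I) (a : j ⟶ i), IsAffineOpen (D.map a ⁻¹ᵁ O) := by
  have (j : Over i) : CompactSpace ((opensDiagram D i O).obj j) :=
    isCompact_iff_compactSpace.mp (QuasiCompact.isCompact_preimage _ O.2 hO)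
  have (j : Over i) : QuasiSeparatedSpace ((opensDiagram D i O).obj j) :=
    (isQuasiSeparated_iff_quasiSeparatedSpace _ (D.map _ ⁻¹ᵁ _).2).mp (.of_quasiSeparatedSpace _)
  have : IsAffine (opensCone D c i O).pt := haff
  obtain ⟨j, hj⟩ := Scheme.exists_isAffine_of_isLimit _ _ (isLimitOpensCone D c hc i O)
  exact ⟨j.left, j.hom, hj⟩

theorem appTop_map {i j k : I} (a : k ⟶ j) (b : j ⟶ i) (x : Γ(D.obj i, ⊤)) :
    (D.map (a ≫ b)).appTop x = (D.map a).appTop ((D.map b).appTop x) := by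
  rw [D.map_comp, Scheme.Hom.comp_appTop]
  rfl

include hc in
/-- An affine cover by basic opens comes from a stage. -/
theorem exists_stage_basicOpen {ι : Type u} [Finite ι] (s : ι → Γ(c.pt, ⊤)) (hcov : ⨆ k, c.pt.basicOpen (s k) = ⊤)
    (haff : ∀ k, IsAffineOpen (c.pt.basicOpen (s k))) :
    ∃ (i : I) (t : ι → Γ(D.obj i, ⊤)), (∀ k, (c.π.app i).appTop (t k) = s k) ∧
      ⨆ k, (D.obj i).basicOpen (t k) = ⊤ ∧ ∀ k, IsAffineOpen ((D.obj i).basicOpen (t k)) := by
  classical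
  cases nonempty_fintype ι
  choose i₀ t₀ ht₀ using fun k => exists_appTop_π_eq_of_isLimit D c hc (s k)
  have hbasic : ∀ {i : I} (x : Γ(D.obj i, ⊤)) (y : Γ(c.pt, ⊤)), (c.π.app i).appTop x = y →
      c.π.app i ⁻¹ᵁ (D.obj i).basicOpen x = c.pt.basicOpen y := fun x y h => by
    subst h
    exact Scheme.preimage_basicOpen _ x
  choose j a hj using fun k => exists_isAffineOpen_stage D c hc ((D.obj (i₀ k)).basicOpen (t₀ k))
    ((isRetrocompact_basicOpen (t₀ k)).isCompact) (by rw [hbasic _ _ (ht₀ k).symm]; exact haff k)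
  obtain ⟨i, hi⟩ := IsCofiltered.inf_objs_exists (Finset.univ.image j)
  replace hi : ∀ k, i ⟶ j k := fun k => (hi (by simp)).some
  let t₁ : ι → Γ(D.obj i, ⊤) := fun k => (D.map (hi k)).appTop ((D.map (a k)).appTop (t₀ k))
  have ht₁ : ∀ k, (c.π.app i).appTop (t₁ k) = s k := fun k => by
    rw [ht₀ k, ← c.w (hi k ≫ a k), Scheme.Hom.comp_appTop]
    show _ = (c.π.app i).appTop ((D.map (hi k ≫ a k)).appTop (t₀ k))
    rw [appTop_map]
  have haff₁ : ∀ k, IsAffineOpen ((D.obj i).basicOpen (t₁ k)) := fun k => by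
    have := (hj k).preimage (D.map (hi k))
    rw [Scheme.preimage_basicOpen, Scheme.preimage_basicOpen] at this
    exact this
  obtain ⟨l, b, hb⟩ := exists_map_eq_top D c hc (⨆ k, (D.obj i).basicOpen (t₁ k)) (by
    rw [Scheme.Hom.preimage_iSup]
    simp_rw [fun k => hbasic _ _ (ht₁ k)]
    exact hcov)
  refine ⟨l, fun k => (D.map b).appTop (t₁ k), fun k => ?_, ?_, fun k => ?_⟩
  · rw [← ht₁ k, ← c.w b, Scheme.Hom.comp_appTop]
    rfl
  · rw [Scheme.Hom.preimage_iSup] at hb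
    simp_rw [Scheme.preimage_basicOpen] at hb
    exact hb
  · have := (haff₁ k).preimage (D.map b)
    rw [Scheme.preimage_basicOpen] at this
    exact this

include hc in
/-- A quasi-compact open with an affine cover by basic opens comes from a stage. -/
theorem exists_stage_overlap {W : Scheme.{u}} (j : W ⟶ c.pt) [IsOpenImmersion j] [CompactSpace W] {ι : Type u}
    [Finite ι] (s : ι → Γ(W, ⊤)) (hcov : ⨆ k, W.basicOpen (s k) = ⊤) (haff : ∀ k, IsAffineOpen (W.basicOpen (s k))) :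
    ∃ (k : I) (W₁ : (D.obj k).Opens) (σ : W ⟶ W₁.toScheme) (t : ι → Γ(W₁.toScheme, ⊤)),
      IsCompact (W₁ : Set (D.obj k)) ∧ c.π.app k ⁻¹ᵁ W₁ = j.opensRange ∧ σ ≫ W₁.ι = j ≫ c.π.app k ∧
      (∀ n, σ.appTop (t n) = s n) ∧ ⨆ n, W₁.toScheme.basicOpen (t n) = ⊤ ∧
      ∀ n, IsAffineOpen (W₁.toScheme.basicOpen (t n)) := by
  obtain ⟨i, W₀, hW₀c, hW₀⟩ := exists_preimage_eq D c hc j.opensRange (isCompact_range j.continuous)
  haveI (k : Over i) : CompactSpace ((opensDiagram D i W₀).obj k) :=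
    isCompact_iff_compactSpace.mp (QuasiCompact.isCompact_preimage _ W₀.2 hW₀c)
  haveI (k : Over i) : QuasiSeparatedSpace ((opensDiagram D i W₀).obj k) :=
    (isQuasiSeparated_iff_quasiSeparatedSpace _ (D.map _ ⁻¹ᵁ _).2).mp (.of_quasiSeparatedSpace _)
  let C := opensCone D c i W₀
  have hr : Set.range j = Set.range (c.π.app i ⁻¹ᵁ W₀).ι := by
    rw [Scheme.Opens.range_ι, hW₀]
    rfl
  let e : W ≅ C.pt := IsOpenImmersion.isoOfRangeEq j (c.π.app i ⁻¹ᵁ W₀).ι hr
  have he : e.hom ≫ (c.π.app i ⁻¹ᵁ W₀).ι = j := IsOpenImmersion.isoOfRangeEq_hom_fac _ _ _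
  let C' : Cone (opensDiagram D i W₀) := C.extend e.hom
  have hC' : IsLimit C' := IsLimit.extendIso e.hom (isLimitOpensCone D c hc i W₀)
  obtain ⟨k, t, hts, htcov, htaff⟩ := exists_stage_basicOpen (opensDiagram D i W₀) C' hC' s hcov haff
  refine ⟨k.left, D.map k.hom ⁻¹ᵁ W₀, C'.π.app k, t, QuasiCompact.isCompact_preimage _ W₀.2 hW₀c, ?_, ?_, hts, htcov, htaff⟩
  · rw [← hW₀, ← Scheme.Hom.comp_preimage, c.w]
  · show (e.hom ≫ C.π.app k) ≫ _ = _
    rw [Category.assoc, ← he, Category.assoc]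
    congr 1
    exact Scheme.Hom.resLE_comp_ι _ _

end Groth.Agent.NApproxLib
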