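import Groth.Agent.NApproxLib.Rel
import Groth.Agent.AffLim.DescendConst

/-!
# Approximation of a scheme over a fixed base
-/

set_option autoImplicit false
set_option backward.isDefEq.respectTransparency false
set_option backward.defeqAttrib.useBackward true
set_option linter.style.haveILetI false
set_option linter.unusedSectionVars false

universe u

open CategoryTheory CategoryTheory.Limits AlgebraicGeometry Opposite

noncomputable section

namespace Groth.Agent.NApproxLib

attribute [local instance] IsCofiltered.isConnected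

section BC

variable {J : Type u} [Category.{u} J] {DX DS : J ⥤ Scheme.{u}} (φ : DX ⟶ DS) {X S : Scheme.{u}} (f : X ⟶ S)
  (pX : (Functor.const J).obj X ⟶ DX) (pS : (Functor.const J).obj S ⟶ DS)

theorem map_comp_pS {i j : J} (a : i ⟶ j) : pS.app i ≫ DS.map a = pS.app j := by
  have h := pS.naturality a
  simp only [Functor.const_obj_map] at h
  erw [Category.id_comp] at h
  exact h.symm

/-- The base changes of the stages to the base. -/
def bcDiag : J ⥤ Over S where
  obj i := Over.mk (pullback.snd (φ.app i) (pS.app i))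
  map {i j} a := Over.homMk (pullback.lift (pullback.fst (φ.app i) (pS.app i) ≫ DX.map a) (pullback.snd _ _)
    (by rw [Category.assoc, φ.naturality, pullback.condition_assoc, map_comp_pS]))
    (pullback.lift_snd _ _ _)
  map_id i := by
    ext1
    apply pullback.hom_ext <;> simp
  map_comp {i j k} a b := by
    ext1
    apply pullback.hom_ext <;> simp

variable (hcomm : ∀ i, pX.app i ≫ φ.app i = f ≫ pS.app i)

/-- The cone on the base changes. -/
def bcCone : Cone (bcDiag φ pS) where
  pt := Over.mk f
  π :=
    { app := fun i => Over.homMk (pullback.lift (pX.app i) f (hcomm i)) (pullback.lift_snd _ _ _)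
      naturality := fun i j a => by
        ext1
        have h := map_comp_pS pX a
        apply pullback.hom_ext
        · simp [bcDiag, ← h]
        · simp [bcDiag] }

variable [IsConnected J] (hX : IsLimit (Cone.mk X pX)) (hS : IsLimit (Cone.mk S pS))

include hX hS in
/-- The base changes have the morphism as limit. -/
theorem nonempty_isLimit_bcCone : Nonempty (IsLimit (bcCone φ f pX pS hcomm)) := by
  have hw : ∀ (s : Cone (bcDiag φ pS)), ∃ m : s.pt ⟶ Over.mk f, ∀ i, m ≫ (bcCone φ f pX pS hcomm).π.app i = s.π.app i := by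
    intro s
    let c : Cone DX := Cone.mk s.pt.left
      { app := fun i => (s.π.app i).left ≫ pullback.fst (φ.app i) (pS.app i)
        naturality := fun i j a => by
          have h := congrArg CommaMorphism.left (s.w a)
          simp only [Over.comp_left] at h
          simp [← h, bcDiag] }
    have hfac : ∀ i, hX.lift c ≫ pX.app i = (s.π.app i).left ≫ pullback.fst (φ.app i) (pS.app i) := hX.fac c
    refine ⟨Over.homMk (hX.lift c) (hS.hom_ext fun i => ?_), fun i => ?_⟩
    · show (hX.lift c ≫ f) ≫ pS.app i = s.pt.hom ≫ pS.app i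
      have h : (s.π.app i).left ≫ pullback.snd (φ.app i) (pS.app i) = s.pt.hom := Over.w (s.π.app i)
      rw [Category.assoc, ← hcomm i, reassoc_of% hfac i, pullback.condition, reassoc_of% h]
    · ext1
      apply pullback.hom_ext
      · simpa [bcCone] using hfac i
      · have h1 := Over.w ((Over.homMk (hX.lift c) (hS.hom_ext fun i => by
          show (hX.lift c ≫ f) ≫ pS.app i = s.pt.hom ≫ pS.app i
          have h : (s.π.app i).left ≫ pullback.snd (φ.app i) (pS.app i) = s.pt.hom := Over.w (s.π.app i)
          rw [Category.assoc, ← hcomm i, reassoc_of% hfac i, pullback.condition, reassoc_of% h]) : s.pt ⟶ Over.mk f))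
        show (hX.lift c ≫ pullback.lift (pX.app i) f (hcomm i)) ≫ pullback.snd _ _ = _
        rw [Category.assoc, pullback.lift_snd]
        exact h1.trans (Over.w (s.π.app i)).symm
  choose m hm using hw
  exact ⟨{ lift := m
           fac := hm
           uniq := fun s m' hm' => by
             ext1
             refine hX.hom_ext fun i => ?_
             have h1 := congrArg (fun q => CommaMorphism.left q ≫ pullback.fst (φ.app i) (pS.app i))
               ((hm' i).trans (hm s i).symm)
             simpa [bcCone] using h1 }⟩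

end BC

/-- A morphism from a qcqs scheme to a quasi-separated scheme is an affine limit of morphisms of finite presentation. -/
theorem exists_over_limit {X S : Scheme.{u}} (f : X ⟶ S) [CompactSpace X] [QuasiSeparatedSpace X]
    [QuasiSeparatedSpace S] :
    ∃ (J : Type u) (_ : Preorder J) (_ : IsDirected J (fun a b => a ≤ b)) (_ : Nonempty J)
      (D : Jᵒᵖ ⥤ Over S) (p : (Functor.const Jᵒᵖ).obj (Over.mk f) ⟶ D) (_ : IsLimit (Cone.mk (Over.mk f) p)),
      (∀ i, LocallyOfFinitePresentation (D.obj i).hom ∧ QuasiCompact (D.obj i).hom ∧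
        QuasiSeparated (D.obj i).hom ∧ CompactSpace (D.obj i).left ∧ QuasiSeparatedSpace (D.obj i).left ∧
        IsAffineHom (p.app i).left) ∧
      (∀ (i j : Jᵒᵖ) (a : i ⟶ j), IsAffineHom (D.map a).left) := by
  obtain ⟨U, hUc, hfU⟩ : ∃ U : S.Opens, IsCompact (U : Set S) ∧ Set.range f ⊆ U := by
    obtain ⟨t, ht⟩ := (isCompact_range f.continuous).elim_finite_subcover
      (fun W : S.affineOpens => ((W : S.Opens) : Set S)) (fun W => W.1.isOpen) fun y _ => by
        obtain ⟨_, ⟨W, hW, rfl⟩, hy, -⟩ := S.isBasis_affineOpens.exists_subset_of_mem_open (Set.mem_univ y) isOpen_univ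
        exact Set.mem_iUnion.mpr ⟨⟨W, hW⟩, hy⟩
    refine ⟨⟨⋃ W ∈ t, ((W : S.Opens) : Set S), isOpen_biUnion fun W _ => W.1.isOpen⟩, ?_, ht⟩
    exact t.isCompact_biUnion fun W _ => W.2.isCompact
  haveI : CompactSpace U.toScheme := isCompact_iff_compactSpace.mp hUc
  haveI : QuasiSeparatedSpace U.toScheme :=
    (isQuasiSeparated_iff_quasiSeparatedSpace _ U.2).mp (.of_quasiSeparatedSpace _)
  let g : X ⟶ U.toScheme := IsOpenImmersion.lift U.ι f (by rwa [Scheme.Opens.range_ι])
  have hg : g ≫ U.ι = f := IsOpenImmersion.lift_fac _ _ _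
  haveI : QuasiCompact U.ι := quasiCompact_of_compactSpace U.ι
  obtain ⟨J, hp, hd, hne, DX, DS, φ, pX, pS, hX, hS, haff, hft, hcomm⟩ := exists_arrow_limit g
  haveI : ∀ {i j} (a : i ⟶ j), IsAffineHom (DX.map a) := fun a => (haff _ _ a).1
  haveI : ∀ {i j} (a : i ⟶ j), IsAffineHom (DS.map a) := fun a => (haff _ _ a).2
  obtain ⟨hL⟩ := nonempty_isLimit_bcCone φ g pX pS hcomm hX hS
  haveI : ∀ i, CompactSpace (DX.obj i) := fun i => (hft i).1
  haveI : ∀ i, CompactSpace (DS.obj i) := fun i => (hft i).2.1
  haveI : ∀ i, IsLocallyNoetherian (DX.obj i) := fun i => isLocallyNoetherian_of_isFTZ (hft i).2.2.1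
  haveI : ∀ i, IsLocallyNoetherian (DS.obj i) := fun i => isLocallyNoetherian_of_isFTZ (hft i).2.2.2
  haveI : ∀ i, IsAffineHom (pS.app i) := fun i => isAffineHom_π_app DS (Cone.mk _ pS) hS i
  haveI : ∀ i, IsAffineHom (pX.app i) := fun i => isAffineHom_π_app DX (Cone.mk _ pX) hX i
  haveI hlfp : ∀ i, LocallyOfFinitePresentation (φ.app i) := fun i => by
    haveI := (hft i).2.2.1
    haveI : LocallyOfFiniteType (φ.app i ≫ IsTerminal.from specULiftZIsTerminal (DS.obj i)) := by
      rw [specULiftZIsTerminal.hom_ext (φ.app i ≫ _) (IsTerminal.from specULiftZIsTerminal _)]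
      exact (hft i).2.2.1
    haveI : LocallyOfFiniteType (φ.app i) := locallyOfFiniteType_of_comp _ (IsTerminal.from specULiftZIsTerminal (DS.obj i))
    infer_instance
  haveI : ∀ i, QuasiCompact (φ.app i) := fun i => quasiCompact_of_compactSpace (φ.app i)
  haveI : ∀ i, QuasiSeparated (φ.app i) := fun i => inferInstance
  let D := bcDiag φ pS ⋙ Over.map U.ι
  let c : Cone D := (Over.map U.ι).mapCone (bcCone φ g pX pS hcomm)
  let e : c.pt ≅ Over.mk f := Over.isoMk (Iso.refl _) (by simpa [c, bcCone] using hg.symm)
  have hLl : IsLimit ((Over.forget S).mapCone c) :=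
    isLimitOfPreserves (Over.forget U.toScheme) hL
  let hc : IsLimit c := isLimitOfReflects (Over.forget S) hLl
  have hcomp : ∀ i, QuasiCompact (pullback.snd (φ.app i) (pS.app i) ≫ U.ι) := fun i => inferInstance
  refine ⟨J, hp, hd, hne, D, (c.extend e.inv).π, IsLimit.extendIso e.inv hc, fun i => ⟨?_, hcomp i, ?_, ?_, ?_, ?_⟩,
    fun i j a => ?_⟩
  · exact inferInstanceAs (LocallyOfFinitePresentation (pullback.snd (φ.app i) (pS.app i) ≫ U.ι))
  · exact inferInstanceAs (QuasiSeparated (pullback.snd (φ.app i) (pS.app i) ≫ U.ι))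
  · haveI : CompactSpace ↥(((Functor.const Jᵒᵖ).obj U.toScheme).obj i) := ‹CompactSpace U.toScheme›
    exact QuasiCompact.compactSpace_of_compactSpace (pullback.snd (φ.app i) (pS.app i))
  · haveI : QuasiSeparatedSpace ↥(((Functor.const Jᵒᵖ).obj U.toScheme).obj i) := ‹QuasiSeparatedSpace U.toScheme›
    exact quasiSeparatedSpace_of_quasiSeparated (pullback.snd (φ.app i) (pS.app i))
  · show IsAffineHom (𝟙 X ≫ pullback.lift (pX.app i) g (hcomm i))
    rw [Category.id_comp]
    haveI : IsAffineHom (pullback.fst (φ.app i) (pS.app i)) := MorphismProperty.pullback_fst _ _ inferInstance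
    haveI : IsAffineHom (pullback.lift (pX.app i) g (hcomm i) ≫ pullback.fst (φ.app i) (pS.app i)) := by
      rw [pullback.lift_fst]; infer_instance
    exact IsAffineHom.of_comp _ (pullback.fst (φ.app i) (pS.app i))
  · show IsAffineHom ((bcDiag φ pS).map a).left
    haveI : IsAffineHom (pullback.fst (φ.app i) (pS.app i)) := MorphismProperty.pullback_fst _ _ inferInstance
    haveI : IsAffineHom (pullback.fst (φ.app j) (pS.app j)) := MorphismProperty.pullback_fst _ _ inferInstance
    haveI : IsAffineHom (((bcDiag φ pS).map a).left ≫ pullback.fst (φ.app j) (pS.app j)) := by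
      show IsAffineHom (pullback.lift _ _ _ ≫ pullback.fst (φ.app j) (pS.app j))
      rw [pullback.lift_fst]; infer_instance
    exact IsAffineHom.of_comp _ (pullback.fst (φ.app j) (pS.app j))

end Groth.Agent.NApproxLib
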