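import Mathlib

/-!
# Extending a model of an open subscheme of an affine scheme
-/

set_option autoImplicit false
set_option backward.isDefEq.respectTransparency false
set_option backward.defeqAttrib.useBackward true
set_option linter.style.haveILetI false

universe u

open CategoryTheory CategoryTheory.Limits AlgebraicGeometry TopologicalSpace Opposite

noncomputable section

namespace Groth.Agent.NApproxLib

/-- A ring map to global sections, localising to the section rings of an affine cover, gives an open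
immersion in the spectrum. -/
theorem isOpenImmersion_toSpec {X : Scheme.{u}} {A : CommRingCat.{u}} (φ : A ⟶ Γ(X, ⊤)) {ι : Type*} (a : ι → A)
    (hcov : ⨆ k, X.basicOpen (φ (a k)) = ⊤) (haff : ∀ k, IsAffineOpen (X.basicOpen (φ (a k))))
    (hloc : ∀ k, (∀ g : Γ(X, X.basicOpen (φ (a k))), ∃ (c : A) (n : ℕ),
        g * (X.presheaf.map (homOfLE le_top).op (φ (a k))) ^ n = X.presheaf.map (homOfLE le_top).op (φ c)) ∧
      ∀ c : A, X.presheaf.map (homOfLE (le_top : X.basicOpen (φ (a k)) ≤ ⊤)).op (φ c) = 0 → ∃ n : ℕ, a k ^ n * c = 0) :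
    IsOpenImmersion (X.toSpecΓ ≫ Spec.map φ) := by
  have hpre : ∀ b : A, (X.toSpecΓ ≫ Spec.map φ) ⁻¹ᵁ PrimeSpectrum.basicOpen b = X.basicOpen (φ b) := fun b =>
    (Scheme.Hom.comp_preimage _ _ _).trans (X.toSpecΓ_preimage_basicOpen (φ b))
  refine IsZariskiLocalAtTarget.of_forall_source_exists_preimage _ fun x => ?_
  have hx : x ∈ ⨆ k, X.basicOpen (φ (a k)) := by rw [hcov]; trivial
  obtain ⟨k, hk⟩ := Opens.mem_iSup.1 hx
  refine ⟨PrimeSpectrum.basicOpen (a k), (hpre (a k)).ge hk, ?_⟩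
  suffices IsOpenImmersion ((X.basicOpen (φ (a k))).ι ≫ X.toSpecΓ ≫ Spec.map φ) by
    convert! this <;> rw [hpre]
  rw [← Category.assoc, ← Scheme.Opens.toSpecΓ_SpecMap_presheaf_map_top, Category.assoc, ← Spec.map_comp]
  letI : Algebra A Γ(X, X.basicOpen (φ (a k))) :=
    (φ ≫ X.presheaf.map (homOfLE (le_top : X.basicOpen (φ (a k)) ≤ ⊤)).op).hom.toAlgebra
  haveI : IsLocalization.Away (a k) Γ(X, X.basicOpen (φ (a k))) := by
    constructor
    constructor
    · rintro ⟨_, n, rfl⟩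
      simp only [map_pow, RingHom.algebraMap_toAlgebra]
      exact IsUnit.pow _ (RingedSpace.isUnit_res_basicOpen _ (φ (a k)))
    · intro g
      obtain ⟨c, n, hcn⟩ := (hloc k).1 g
      refine ⟨⟨c, _, n, rfl⟩, ?_⟩
      simp only [map_pow, RingHom.algebraMap_toAlgebra]
      exact hcn
    · intro c c' h
      obtain ⟨n, hn⟩ := (hloc k).2 (c - c') (by
        rw [map_sub, map_sub, sub_eq_zero]
        exact h)
      exact ⟨⟨_, n, rfl⟩, by rwa [← sub_eq_zero, ← mul_sub]⟩
  exact MorphismProperty.comp_mem _ (haff k).isoSpec.hom _ inferInstance (.of_isLocalization (a k))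

section Ring

variable {R : Type u} [CommRing R] {T : Type u} [CommRing T] {M : Type u} [CommRing M]

/-- The compatible pairs. -/
def pairs (a : R →+* M) (b : T →+* M) : Subring (R × T) :=
  RingHom.eqLocus (a.comp (RingHom.fst R T)) (b.comp (RingHom.snd R T))

end Ring

section Model

variable {U : Scheme.{u}} (W : U.Opens) {W₁ : Scheme.{u}} (σ : W.toScheme ⟶ W₁)

/-- Sections of the model pulled back to the open. -/
def pullSec : Γ(W₁, ⊤) ⟶ Γ(U, W) := σ.appTop ≫ W.topIso.hom

/-- Finitely many compatible pairs generate an open immersion of the model in an affine scheme of finite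
type over the integers. -/
theorem exists_pairs [IsAffine U] (hW : IsCompact (W : Set U)) [CompactSpace W₁] [QuasiSeparatedSpace W₁]
    {ι : Type*} [Finite ι] (f : ι → Γ(U, ⊤)) (t : ι → Γ(W₁, ⊤))
    (hfW : ∀ k, U.basicOpen (f k) ≤ W)
    (hft : ∀ k, pullSec W σ (t k) = U.presheaf.map (homOfLE (le_top : W ≤ ⊤)).op (f k))
    (hgen : ∀ k, ∃ s : Finset Γ(W₁, W₁.basicOpen (t k)), Subring.closure (s : Set Γ(W₁, W₁.basicOpen (t k))) = ⊤) :
    ∃ G : Finset (Γ(U, ⊤) × Γ(W₁, ⊤)),
      (G : Set (Γ(U, ⊤) × Γ(W₁, ⊤))) ⊆ pairs (U.presheaf.map (homOfLE (le_top : W ≤ ⊤)).op).hom (pullSec W σ).hom ∧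
      (∀ k, (f k, t k) ∈ G) ∧
      ∀ (k : ι) (g : Γ(W₁, W₁.basicOpen (t k))), ∃ c ∈ Subring.closure (G : Set (Γ(U, ⊤) × Γ(W₁, ⊤))), ∃ n : ℕ,
        g * (W₁.presheaf.map (homOfLE le_top).op (t k)) ^ n =
          W₁.presheaf.map (homOfLE (le_top : W₁.basicOpen (t k) ≤ ⊤)).op c.2 := by
  classical
  -- each section on a piece is, after multiplying by a power, the second entry of a pair
  have lift : ∀ (k : ι) (g : Γ(W₁, W₁.basicOpen (t k))),
      ∃ c ∈ pairs (U.presheaf.map (homOfLE (le_top : W ≤ ⊤)).op).hom (pullSec W σ).hom, ∃ n : ℕ,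
        g * (W₁.presheaf.map (homOfLE le_top).op (t k)) ^ n =
          W₁.presheaf.map (homOfLE (le_top : W₁.basicOpen (t k) ≤ ⊤)).op c.2 := by
    intro k g
    obtain ⟨m, s, hs⟩ := exists_eq_pow_mul_of_isCompact_of_isQuasiSeparated W₁ ⊤ isCompact_univ
      isQuasiSeparated_univ (t k) g
    haveI := (isAffineOpen_top U).isLocalization_basicOpen (f k)
    obtain ⟨⟨r, _, p, rfl⟩, hr⟩ := IsLocalization.surj (Submonoid.powers (f k))
      (U.presheaf.map (homOfLE (hfW k)).op (pullSec W σ s))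
    let a := U.presheaf.map (homOfLE (le_top : W ≤ ⊤)).op
    have hD : U.basicOpen (a (f k)) = U.basicOpen (f k) := by
      rw [Scheme.basicOpen_res]
      exact inf_eq_right.2 (hfW k)
    obtain ⟨q, hq⟩ := exists_pow_mul_eq_zero_of_res_basicOpen_eq_zero_of_isCompact U hW
      (a r - pullSec W σ s * a (f k) ^ p) (a (f k)) (by
        have h0 : U.presheaf.map (homOfLE (hfW k)).op (a r - pullSec W σ s * a (f k) ^ p) = 0 := by
          rw [map_sub, map_mul, map_pow, sub_eq_zero]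
          simp only [a, ← CommRingCat.comp_apply, ← Functor.map_comp]
          simp only [map_pow, RingHom.algebraMap_toAlgebra] at hr
          exact hr.symm
        dsimp only [TopCat.Presheaf.restrictOpenCommRingCat_apply]
        have := congrArg (U.presheaf.map (homOfLE hD.le).op) h0
        rw [map_zero, ← CommRingCat.comp_apply, ← Functor.map_comp] at this
        exact this)
    refine ⟨(r * f k ^ q, s * t k ^ (p + q)), ?_, m + (p + q), ?_⟩
    · show a (r * f k ^ q) = pullSec W σ (s * t k ^ (p + q))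
      rw [map_mul, map_mul, map_pow, map_pow, hft, ← sub_eq_zero]
      linear_combination hq
    · dsimp only [TopCat.Presheaf.restrictOpenCommRingCat_apply] at hs
      show _ = W₁.presheaf.map _ (s * t k ^ (p + q))
      rw [map_mul, map_pow]
      refine Eq.trans ?_ (congrArg (· * _) hs.symm)
      ring
  choose s hs using hgen
  choose c hc n hn using lift
  haveI := Fintype.ofFinite ι
  refine ⟨Finset.univ.image (fun k => (f k, t k)) ∪ Finset.univ.biUnion (fun k => (s k).image (c k)), ?_,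
    fun k => Finset.mem_union_left _ (Finset.mem_image.2 ⟨k, Finset.mem_univ _, rfl⟩), fun k g => ?_⟩
  · intro x hx
    simp only [Finset.coe_union, Finset.coe_image, Finset.coe_biUnion, Finset.coe_univ, Set.mem_union,
      Set.mem_image, Set.mem_univ, true_and, Set.mem_iUnion, exists_const] at hx
    rcases hx with ⟨k, rfl⟩ | ⟨k, g, -, rfl⟩
    · exact (hft k).symm
    · exact hc k g
  · set G := Finset.univ.image (fun k => (f k, t k)) ∪ Finset.univ.biUnion (fun k => (s k).image (c k))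
    have hG : (f k, t k) ∈ Subring.closure (G : Set (Γ(U, ⊤) × Γ(W₁, ⊤))) :=
      Subring.subset_closure (Finset.mem_union_left _ (Finset.mem_image.2 ⟨k, Finset.mem_univ _, rfl⟩))
    set ρ := W₁.presheaf.map (homOfLE (le_top : W₁.basicOpen (t k) ≤ ⊤)).op with hρ
    induction show g ∈ Subring.closure (s k : Set Γ(W₁, W₁.basicOpen (t k))) by rw [hs k]; trivial
      using Subring.closure_induction with
    | mem g hg =>
        exact ⟨c k g, Subring.subset_closure (Finset.mem_union_right _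
          (Finset.mem_biUnion.2 ⟨k, Finset.mem_univ _, Finset.mem_image.2 ⟨g, hg, rfl⟩⟩)), n k g, hn k g⟩
    | zero => exact ⟨0, Subring.zero_mem _, 0, by simp⟩
    | one => exact ⟨1, Subring.one_mem _, 0, by simp⟩
    | add g g' _ _ h h' =>
        obtain ⟨x, hx, i, hi⟩ := h
        obtain ⟨x', hx', i', hi'⟩ := h'
        refine ⟨x * (f k, t k) ^ i' + x' * (f k, t k) ^ i,
          add_mem (mul_mem hx (pow_mem hG _)) (mul_mem hx' (pow_mem hG _)), i + i', ?_⟩
        simp only [Prod.snd_add, Prod.snd_mul, Prod.pow_snd, map_add, map_mul, map_pow, ← hρ]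
        linear_combination (ρ (t k)) ^ i' * hi + (ρ (t k)) ^ i * hi'
    | neg g _ h =>
        obtain ⟨x, hx, i, hi⟩ := h
        refine ⟨-x, neg_mem hx, i, ?_⟩
        simp only [Prod.snd_neg, map_neg]
        linear_combination -hi
    | mul g g' _ _ h h' =>
        obtain ⟨x, hx, i, hi⟩ := h
        obtain ⟨x', hx', i', hi'⟩ := h'
        refine ⟨x * x', mul_mem hx hx', i + i', ?_⟩
        simp only [Prod.snd_mul, map_mul, ← hρ]
        linear_combination g' * (ρ (t k)) ^ i' * hi + ρ x.2 * hi'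

/-- Extend a model of an open subscheme to a model of the affine scheme. -/
theorem exists_affine_extension [IsAffine U] (hW : IsCompact (W : Set U)) [CompactSpace W₁] [QuasiSeparatedSpace W₁]
    {ι : Type*} [Finite ι] (f : ι → Γ(U, ⊤)) (t : ι → Γ(W₁, ⊤))
    (hfW : W = ⨆ k, U.basicOpen (f k)) (htcov : ⨆ k, W₁.basicOpen (t k) = ⊤)
    (hft : ∀ k, pullSec W σ (t k) = U.presheaf.map (homOfLE (le_top : W ≤ ⊤)).op (f k))
    (haff : ∀ k, IsAffineOpen (W₁.basicOpen (t k)))
    (hgen : ∀ k, ∃ s : Finset Γ(W₁, W₁.basicOpen (t k)), Subring.closure (s : Set Γ(W₁, W₁.basicOpen (t k))) = ⊤) :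
    ∃ (A : CommRingCat.{u}) (q : U ⟶ Spec A) (ψ : W₁ ⟶ Spec A), Algebra.FiniteType ℤ A ∧ ∃ _ : IsOpenImmersion ψ,
      W.ι ≫ q = σ ≫ ψ ∧ q ⁻¹ᵁ ψ.opensRange ≤ W := by
  classical
  have hle : ∀ k, U.basicOpen (f k) ≤ W := fun k => hfW ▸ le_iSup (fun k => U.basicOpen (f k)) k
  obtain ⟨G, hGpairs, hGft, hGsurj⟩ := exists_pairs W σ hW f t hle hft hgen
  let A' : Subalgebra ℤ (Γ(U, ⊤) × Γ(W₁, ⊤)) := Algebra.adjoin ℤ (G : Set (Γ(U, ⊤) × Γ(W₁, ⊤)))
  let A : CommRingCat.{u} := CommRingCat.of A'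
  let φU : A ⟶ Γ(U, ⊤) := CommRingCat.ofHom ((RingHom.fst _ _).comp A'.val.toRingHom)
  let φW : A ⟶ Γ(W₁, ⊤) := CommRingCat.ofHom ((RingHom.snd _ _).comp A'.val.toRingHom)
  have hsub : ∀ x ∈ A', x ∈ pairs (U.presheaf.map (homOfLE (le_top : W ≤ ⊤)).op).hom (pullSec W σ).hom :=
    fun x hx => Algebra.adjoin_le (R := ℤ)
      (S := subalgebraOfSubring (pairs (U.presheaf.map (homOfLE (le_top : W ≤ ⊤)).op).hom (pullSec W σ).hom))
      hGpairs hx
  have hclos : ∀ x ∈ Subring.closure (G : Set (Γ(U, ⊤) × Γ(W₁, ⊤))), x ∈ A' := fun x hx =>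
    (Subring.closure_le (t := A'.toSubring)).2 Algebra.subset_adjoin hx
  let a : ι → A := fun k => ⟨(f k, t k), Algebra.subset_adjoin (hGft k)⟩
  have hψ : IsOpenImmersion (W₁.toSpecΓ ≫ Spec.map φW) := by
    refine isOpenImmersion_toSpec φW a htcov haff fun k => ⟨fun g => ?_, fun c hc => ?_⟩
    · obtain ⟨x, hx, n, hn⟩ := hGsurj k g
      exact ⟨⟨x, hclos x hx⟩, n, hn⟩
    · obtain ⟨n, hn⟩ := exists_pow_mul_eq_zero_of_res_basicOpen_eq_zero_of_isCompact W₁ (U := ⊤) isCompact_univ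
        (φW c) (t k) hc
      have e : U.presheaf.map (homOfLE (le_top : W ≤ ⊤)).op (f k ^ n * (φU c)) = 0 := by
        have h : U.presheaf.map (homOfLE (le_top : W ≤ ⊤)).op (φU c) = pullSec W σ (φW c) := hsub _ c.2
        rw [map_mul, map_pow, h, ← hft k, ← map_pow, ← map_mul, hn, map_zero]
      obtain ⟨m, hm⟩ := exists_pow_mul_eq_zero_of_res_basicOpen_eq_zero_of_isCompact U (U := ⊤) isCompact_univ
        (f k ^ n * (φU c)) (f k) (by
          dsimp only [TopCat.Presheaf.restrictOpenCommRingCat_apply]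
          have := congrArg (U.presheaf.map (homOfLE (hle k)).op) e
          rw [map_zero, ← CommRingCat.comp_apply, ← Functor.map_comp] at this
          exact this)
      refine ⟨m + n, Subtype.ext (Prod.ext ?_ ?_)⟩
      · show f k ^ (m + n) * (φU c) = 0
        rw [pow_add, mul_assoc, hm]
      · show t k ^ (m + n) * (φW c) = 0
        rw [pow_add, mul_assoc, hn, mul_zero]
  have hcomm : W.ι ≫ U.toSpecΓ ≫ Spec.map φU = σ ≫ W₁.toSpecΓ ≫ Spec.map φW := by
    rw [Scheme.toSpecΓ_naturality_assoc W.ι, Scheme.toSpecΓ_naturality_assoc σ, ← Spec.map_comp, ← Spec.map_comp]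
    congr 2
    rw [← cancel_mono W.topIso.hom]
    ext c
    have h : U.presheaf.map (homOfLE (le_top : W ≤ ⊤)).op (φU c) = pullSec W σ (φW c) := hsub _ c.2
    have e : W.ι.appTop ≫ W.topIso.hom = U.presheaf.map (homOfLE (le_top : W ≤ ⊤)).op := by
      simp only [Scheme.Opens.ι_appTop, Scheme.Opens.topIso_hom, ← Functor.map_comp]
      rfl
    show (W.ι.appTop ≫ W.topIso.hom) (φU c) = pullSec W σ (φW c)
    rw [e]
    exact h
  refine ⟨A, U.toSpecΓ ≫ Spec.map φU, W₁.toSpecΓ ≫ Spec.map φW,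
    (Subalgebra.fg_iff_finiteType A').1 ⟨G, rfl⟩, hψ, hcomm, ?_⟩
  have hr : (W₁.toSpecΓ ≫ Spec.map φW).opensRange ≤ ⨆ k, PrimeSpectrum.basicOpen (a k) := by
    rintro _ ⟨x, rfl⟩
    have hx : x ∈ ⨆ k, W₁.basicOpen (t k) := by rw [htcov]; trivial
    obtain ⟨k, hk⟩ := Opens.mem_iSup.1 hx
    refine Opens.mem_iSup.2 ⟨k, ?_⟩
    have : x ∈ (W₁.toSpecΓ ≫ Spec.map φW) ⁻¹ᵁ PrimeSpectrum.basicOpen (a k) := by
      rw [Scheme.Hom.comp_preimage]
      exact (W₁.toSpecΓ_preimage_basicOpen (φW (a k))).ge hk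
    exact this
  refine (Scheme.Hom.preimage_mono _ hr).trans ?_
  rw [Scheme.Hom.preimage_iSup, iSup_le_iff]
  intro k
  rw [Scheme.Hom.comp_preimage]
  exact (U.toSpecΓ_preimage_basicOpen (φU (a k))).le.trans (hle k)

end Model

end Groth.Agent.NApproxLib
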