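import Mathlib

/-!
# Schemes locally of finite type over the integers
-/

set_option autoImplicit false
set_option linter.style.haveILetI false

universe u

open CategoryTheory CategoryTheory.Limits AlgebraicGeometry

noncomputable section

namespace Groth.Agent.NApproxLib

/-- Locally of finite type over the integers. -/
abbrev IsFTZ (X : Scheme.{u}) : Prop := LocallyOfFiniteType (IsTerminal.from specULiftZIsTerminal X)

theorem isFTZ_of_hom {X Y : Scheme.{u}} (f : X ⟶ Y) [LocallyOfFiniteType f] (hY : IsFTZ Y) : IsFTZ X := by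
  haveI := hY
  show LocallyOfFiniteType _
  rw [specULiftZIsTerminal.hom_ext (IsTerminal.from specULiftZIsTerminal X)
    (f ≫ IsTerminal.from specULiftZIsTerminal Y)]
  infer_instance

instance : IsNoetherianRing (CommRingCat.of (ULift.{u} ℤ)) :=
  isNoetherianRing_of_ringEquiv ℤ ULift.ringEquiv.symm

theorem isLocallyNoetherian_of_isFTZ {X : Scheme.{u}} (hX : IsFTZ X) : IsLocallyNoetherian X := by
  haveI := hX
  exact LocallyOfFiniteType.isLocallyNoetherian (IsTerminal.from specULiftZIsTerminal X)

theorem isFTZ_spec (A : CommRingCat.{u}) [Algebra.FiniteType ℤ A] : IsFTZ (Spec A) := by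
  show LocallyOfFiniteType _
  let φ : ULift.{u} ℤ →+* A := (Int.castRingHom A).comp ULift.ringEquiv.toRingHom
  rw [specULiftZIsTerminal.hom_ext (IsTerminal.from specULiftZIsTerminal (Spec A)) (Spec.map (CommRingCat.ofHom φ))]
  rw [HasRingHomProperty.Spec_iff (P := @LocallyOfFiniteType)]
  exact RingHom.FiniteType.comp ((RingHom.finiteType_algebraMap (A := ℤ) (B := A)).2 inferInstance)
    (RingHom.FiniteType.of_surjective _ ULift.ringEquiv.surjective)

theorem exists_closure_eq_top {X : Scheme.{u}} (hX : IsFTZ X) {W : X.Opens} (hW : IsAffineOpen W) :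
    ∃ s : Finset Γ(X, W), Subring.closure (s : Set Γ(X, W)) = ⊤ := by
  classical
  haveI := hX
  haveI : IsAffine W.toScheme := hW
  let f := W.ι ≫ IsTerminal.from specULiftZIsTerminal X
  have hf := HasRingHomProperty.appTop (P := @LocallyOfFiniteType) f inferInstance
  have h2 : ((f.appTop ≫ W.topIso.hom).hom.comp (Scheme.ΓSpecIso (CommRingCat.of (ULift.{u} ℤ))).inv.hom).FiniteType := by
    rw [CommRingCat.hom_comp]
    exact RingHom.FiniteType.comp (RingHom.FiniteType.comp
      (RingHom.FiniteType.of_surjective _ (ConcreteCategory.bijective_of_isIso W.topIso.hom).2) hf)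
      (RingHom.FiniteType.of_surjective _ (ConcreteCategory.bijective_of_isIso
        (Scheme.ΓSpecIso (CommRingCat.of (ULift.{u} ℤ))).inv).2)
  set ψ := (f.appTop ≫ W.topIso.hom).hom.comp (Scheme.ΓSpecIso (CommRingCat.of (ULift.{u} ℤ))).inv.hom
  letI := ψ.toAlgebra
  obtain ⟨s, hs⟩ := h2.out
  refine ⟨s, eq_top_iff.2 ?_⟩
  intro g htop
  clear htop
  have hg : g ∈ Algebra.adjoin (ULift.{u} ℤ) (s : Set Γ(X, W)) := by rw [hs]; trivial
  induction hg using Algebra.adjoin_induction with
  | mem g hg => exact Subring.subset_closure hg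
  | algebraMap r =>
      have : algebraMap (ULift.{u} ℤ) Γ(X, W) r = ((r.down : ℤ) : Γ(X, W)) :=
        (by
        exact eq_intCast ((algebraMap (ULift.{u} ℤ) Γ(X, W)).comp
          ((ULift.ringEquiv : ULift.{u} ℤ ≃+* ℤ).symm : ℤ →+* ULift.{u} ℤ)) r.down)
      rw [this]
      exact intCast_mem _ _
  | add _ _ _ _ h h' => exact add_mem h h'
  | mul _ _ _ _ h h' => exact mul_mem h h'

end Groth.Agent.NApproxLib
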