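import Mathlib

/-!
# Gluing affine morphisms
-/

set_option autoImplicit false
set_option backward.isDefEq.respectTransparency false
set_option backward.defeqAttrib.useBackward true
set_option linter.style.haveILetI false

universe u

open CategoryTheory CategoryTheory.Limits AlgebraicGeometry TopologicalSpace

noncomputable section

namespace Groth.Agent.NApproxLib

/-- Glue two affine morphisms defined on two opens to the pushout of their targets along compatible open pieces. -/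
theorem exists_affineHom_glue {S : Scheme.{u}} (V U : S.Opens) (hVU : V ⊔ U = ⊤) {P Q R : Scheme.{u}}
    (r₁ : R ⟶ P) (r₂ : R ⟶ Q) [IsOpenImmersion r₁] [IsOpenImmersion r₂] (qP : V.toScheme ⟶ P) (qQ : U.toScheme ⟶ Q)
    [IsAffineHom qP] [IsAffineHom qQ] (qR : (V ⊓ U).toScheme ⟶ R)
    (hR₁ : qR ≫ r₁ = S.homOfLE inf_le_left ≫ qP) (hR₂ : qR ≫ r₂ = S.homOfLE inf_le_right ≫ qQ)
    (hU : ∀ x : U.toScheme, qQ x ∈ Set.range r₂ → U.ι x ∈ V)
    (hV : ∀ x : V.toScheme, qP x ∈ Set.range r₁ → V.ι x ∈ U) :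
    ∃ (G : Scheme.{u}) (q : S ⟶ G) (iP : P ⟶ G) (iQ : Q ⟶ G), IsAffineHom q ∧ IsOpenImmersion iP ∧
      IsOpenImmersion iQ ∧ (∀ z : G, z ∈ Set.range iP ∨ z ∈ Set.range iQ) ∧
      V.ι ≫ q = qP ≫ iP ∧ U.ι ≫ q = qQ ≫ iQ := by
  let iP : P ⟶ pushout r₁ r₂ := pushout.inl r₁ r₂
  let iQ : Q ⟶ pushout r₁ r₂ := pushout.inr r₁ r₂
  haveI : IsOpenImmersion iP := inferInstanceAs (IsOpenImmersion (colimit.ι (span r₁ r₂) WalkingSpan.left))
  haveI : IsOpenImmersion iQ := inferInstanceAs (IsOpenImmersion (colimit.ι (span r₁ r₂) WalkingSpan.right))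
  have hw : r₁ ≫ iP = r₂ ≫ iQ := pushout.condition
  have hcov : ∀ z : ↥(pushout r₁ r₂), z ∈ Set.range iP ∨ z ∈ Set.range iQ := fun z => by
    obtain ⟨j, p, hp⟩ := (Scheme.IsLocallyDirected.openCover (span r₁ r₂)).exists_eq z
    change colimit.ι (span r₁ r₂) j p = z at hp
    rcases j with _ | (_ | _)
    · refine .inl ⟨r₁ p, ?_⟩
      rw [← hp, ← Scheme.Hom.comp_apply]
      exact congrArg (fun m : R ⟶ pushout r₁ r₂ => m p) (colimit.w (span r₁ r₂) WalkingSpan.Hom.fst)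
    · exact .inl ⟨p, hp⟩
    · exact .inr ⟨p, hp⟩
  have hinter : ∀ p p', iP p = iQ p' → p ∈ Set.range r₁ ∧ p' ∈ Set.range r₂ := fun p p' h => by
    obtain ⟨k, fi, fj, w, h1, h2⟩ := (Scheme.IsLocallyDirected.ι_eq_ι_iff (span r₁ r₂)
      (i := WalkingSpan.left) (j := WalkingSpan.right) (xi := p) (xj := p')).1 h
    rcases k with _ | (_ | _)
    · rcases fi with _ | _
      rcases fj with _ | _
      exact ⟨⟨w, h1⟩, ⟨w, h2⟩⟩
    · exact nomatch fj
    · exact nomatch fi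
  let 𝒰 := S.openCoverOfIsOpenCover (fun t : Bool => bif t then V else U) (by
    rw [IsOpenCover, ← hVU, iSup_bool_eq]
    rfl)
  have hq₀ : S.homOfLE (inf_le_left : V ⊓ U ≤ V) ≫ qP ≫ iP = S.homOfLE (inf_le_right : V ⊓ U ≤ U) ≫ qQ ≫ iQ := by
    rw [← reassoc_of% hR₁, ← reassoc_of% hR₂, hw]
  let q : S ⟶ pushout r₁ r₂ := 𝒰.glueMorphisms
    (fun t => match t with | true => qP ≫ iP | false => qQ ≫ iQ) (by
      rintro (_ | _) (_ | _)
      · exact congrArg (· ≫ _) ((cancel_mono U.ι).1 pullback.condition)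
      · rw [← cancel_epi (isPullback_opens_inf U V).isoPullback.hom]
        erw [IsPullback.isoPullback_hom_fst_assoc, IsPullback.isoPullback_hom_snd_assoc]
        rw [← cancel_epi (S.isoOfEq (inf_comm V U)).hom]
        simp only [Scheme.isoOfEq_hom, Scheme.homOfLE_homOfLE_assoc]
        exact hq₀.symm
      · rw [← cancel_epi (isPullback_opens_inf V U).isoPullback.hom]
        erw [IsPullback.isoPullback_hom_fst_assoc, IsPullback.isoPullback_hom_snd_assoc]
        exact hq₀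
      · exact congrArg (· ≫ _) ((cancel_mono V.ι).1 pullback.condition))
  have hqV : V.ι ≫ q = qP ≫ iP := 𝒰.ι_glueMorphisms _ _ true
  have hqU : U.ι ≫ q = qQ ≫ iQ := 𝒰.ι_glueMorphisms _ _ false
  have hmem : ∀ x : S, x ∈ V ∨ x ∈ U := fun x => by
    have : x ∈ V ⊔ U := by rw [hVU]; trivial
    exact this
  have eV : ∀ x : V.toScheme, q (V.ι x) = iP (qP x) := fun x => by
    rw [← Scheme.Hom.comp_apply, hqV, Scheme.Hom.comp_apply]
  have eU : ∀ x : U.toScheme, q (U.ι x) = iQ (qQ x) := fun x => by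
    rw [← Scheme.Hom.comp_apply, hqU, Scheme.Hom.comp_apply]
  have hpP : q ⁻¹ᵁ iP.opensRange = V := by
    ext x
    refine ⟨fun hx => ?_, fun hx => ⟨qP ⟨x, hx⟩, (eV ⟨x, hx⟩).symm⟩⟩
    rcases hmem x with h | h
    · exact h
    · obtain ⟨p, hp⟩ := hx
      exact hU ⟨x, h⟩ (hinter p _ (hp.trans (eU ⟨x, h⟩))).2
  have hpQ : q ⁻¹ᵁ iQ.opensRange = U := by
    ext x
    refine ⟨fun hx => ?_, fun hx => ⟨qQ ⟨x, hx⟩, (eU ⟨x, hx⟩).symm⟩⟩
    rcases hmem x with h | h
    · obtain ⟨p, hp⟩ := hx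
      exact hV ⟨x, h⟩ (hinter _ p ((eV ⟨x, h⟩).symm.trans hp.symm)).1
    · exact h
  have hres : ∀ {A : Scheme.{u}} (i : A ⟶ pushout r₁ r₂) [IsOpenImmersion i] (O : S.Opens) (qA : O.toScheme ⟶ A)
      [IsAffineHom qA], O.ι ≫ q = qA ≫ i → q ⁻¹ᵁ i.opensRange = O → IsAffineHom (q ∣_ i.opensRange) := by
    intro A i _ O qA _ h1 h2
    have sq : IsPullback qA O.ι i q :=
      IsOpenImmersion.isPullback qA O.ι i q h1 (by rw [h2, Scheme.Opens.opensRange_ι])
    refine (MorphismProperty.arrow_mk_iso_iff @IsAffineHom (morphismRestrictOpensRange q i)).2 ?_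
    refine (MorphismProperty.arrow_mk_iso_iff @IsAffineHom
      (Arrow.isoMk sq.flip.isoPullback (Iso.refl _) ?_)).1 ‹IsAffineHom qA›
    exact (sq.flip.isoPullback_hom_snd).trans (Category.comp_id _).symm
  refine ⟨_, q, iP, iQ, ?_, inferInstance, inferInstance, hcov, hqV, hqU⟩
  refine (IsZariskiLocalAtTarget.iff_of_iSup_eq_top (P := @IsAffineHom)
    (fun t : Bool => bif t then iP.opensRange else iQ.opensRange) ?_).2 fun t => ?_
  · rw [iSup_bool_eq]
    exact eq_top_iff.2 fun z _ => hcov z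
  · cases t
    · exact hres iQ U qQ hqU hpQ
    · exact hres iP V qP hqV hpP

end Groth.Agent.NApproxLib
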