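import Groth.Agent.NApproxLib.Limit
import Groth.Agent.NApproxLib.Alg
import Groth.Agent.NApproxLib.Glue2
import Groth.Agent.NApproxLib.FTZ
import Groth.Agent.NApproxLib.Stages

/-!
# Absolute noetherian approximation
-/

set_option autoImplicit false
set_option backward.isDefEq.respectTransparency false
set_option backward.defeqAttrib.useBackward true
set_option linter.style.haveILetI false
set_option linter.unusedSectionVars false

universe u

open CategoryTheory CategoryTheory.Limits AlgebraicGeometry TopologicalSpace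

noncomputable section

namespace Groth.Agent.NApproxLib

variable {V V₀ : Scheme.{u}} (π : V ⟶ V₀) [IsAffineHom π]

instance compactSpace_stage [CompactSpace V₀] (N : Idx π) : CompactSpace (stage π N) :=
  QuasiCompact.compactSpace_of_compactSpace (toBase π N)

instance quasiSeparatedSpace_stage [QuasiSeparatedSpace V₀] (N : Idx π) : QuasiSeparatedSpace (stage π N) :=
  quasiSeparatedSpace_of_quasiSeparated (toBase π N)

theorem isFTZ_stage (h : IsFTZ V₀) (N : Idx π) : IsFTZ (stage π N) := by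
  haveI := isLocallyNoetherian_of_isFTZ h
  haveI := locallyOfFiniteType_toBase π N
  exact isFTZ_of_hom (toBase π N) h

/-- Some affine morphism to a quasi-compact scheme locally of finite type over the integers. -/
def HasFTZ (S : Scheme.{u}) : Prop :=
  ∃ (S₀ : Scheme.{u}) (q : S ⟶ S₀), IsAffineHom q ∧ CompactSpace S₀ ∧ IsFTZ S₀

theorem hasFTZ_of_isAffine (S : Scheme.{u}) [IsAffine S] : HasFTZ S := by
  refine ⟨_, IsTerminal.from specULiftZIsTerminal S, inferInstance, inferInstance, ?_⟩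
  show LocallyOfFiniteType _
  rw [specULiftZIsTerminal.hom_ext (IsTerminal.from specULiftZIsTerminal _) (𝟙 _)]
  infer_instance

theorem HasFTZ.of_iso {S T : Scheme.{u}} (e : T ≅ S) (h : HasFTZ S) : HasFTZ T := by
  obtain ⟨S₀, q, hq, hc, hf⟩ := h
  exact ⟨S₀, e.hom ≫ q, inferInstance, hc, hf⟩

/-- Adding one affine open to a limit of schemes of finite type over the integers. -/
theorem hasFTZ_glue {S : Scheme.{u}} [QuasiSeparatedSpace S] (V U : S.Opens) (hVU : V ⊔ U = ⊤)
    (hVc : IsCompact (V : Set S)) (hU : IsAffineOpen U) {I : Type u} [Category.{u} I] [IsCofiltered I]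
    (D : I ⥤ Scheme.{u}) (c : Cone D) (hc : IsLimit c) [∀ {i j} (f : i ⟶ j), IsAffineHom (D.map f)]
    [∀ i, CompactSpace (D.obj i)] [∀ i, QuasiSeparatedSpace (D.obj i)] (hD : ∀ i, IsFTZ (D.obj i))
    (eV : V.toScheme ≅ c.pt) : HasFTZ S := by
  classical
  haveI : IsAffine U.toScheme := hU
  -- the overlap inside `U` and inside `V`
  let W : U.toScheme.Opens := U.ι ⁻¹ᵁ V
  have hW : IsCompact (W : Set U.toScheme) := by
    rw [U.ι.isOpenEmbedding.isEmbedding.isCompact_iff]
    have e : U.ι '' (W : Set U.toScheme) = (U : Set S) ∩ V := by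
      show U.ι '' (U.ι ⁻¹' (V : Set S)) = _
      rw [Set.image_preimage_eq_range_inter, Scheme.Opens.range_ι]
    rw [e]
    exact QuasiSeparatedSpace.inter_isCompact _ _ U.2 hU.isCompact V.2 hVc
  have hrange : Set.range (W.ι ≫ U.ι) ⊆ Set.range V.ι := by
    rintro _ ⟨x, rfl⟩
    rw [Scheme.Opens.range_ι, Scheme.Hom.comp_apply]
    exact x.2
  let j : W.toScheme ⟶ V.toScheme := IsOpenImmersion.lift V.ι (W.ι ≫ U.ι) hrange
  have hj : j ≫ V.ι = W.ι ≫ U.ι := IsOpenImmersion.lift_fac _ _ _
  haveI : IsOpenImmersion j := by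
    haveI : IsOpenImmersion (j ≫ V.ι) := by rw [hj]; infer_instance
    exact IsOpenImmersion.of_comp j V.ι
  haveI : CompactSpace W.toScheme := isCompact_iff_compactSpace.mp hW
  -- the basic opens
  obtain ⟨fs, hfs, hfsf, hWeq⟩ := (isBasis_basicOpen U.toScheme).exists_finite_of_isCompact hW
  haveI := hfsf.to_subtype
  choose f hf using fun k : fs => hfs k.2
  have hWf : W = ⨆ k : fs, U.toScheme.basicOpen (f k) := by
    rw [hWeq, sSup_eq_iSup']
    exact iSup_congr fun k => (hf k).symm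
  have hle : ∀ k, U.toScheme.basicOpen (f k) ≤ W := fun k => hWf ▸ le_iSup (fun k => U.toScheme.basicOpen (f k)) k
  have hs : ∀ k, W.toScheme.basicOpen (W.ι.appTop (f k)) = W.ι ⁻¹ᵁ U.toScheme.basicOpen (f k) := fun k =>
    (Scheme.preimage_basicOpen W.ι (f k)).symm
  obtain ⟨k₁, W₁, σ, t, hW₁c, hW₁, hσ, hts, htcov, htaff⟩ := exists_stage_overlap D c hc (j ≫ eV.hom)
    (fun k => W.ι.appTop (f k)) (by
      simp_rw [hs]
      rw [← Scheme.Hom.preimage_iSup, ← hWf, Scheme.Opens.ι_preimage_self])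
    (fun k => by
      rw [hs]
      exact ((isAffineOpen_top U.toScheme).basicOpen (f k)).preimage_of_isOpenImmersion W.ι (by
        rw [Scheme.Opens.opensRange_ι]; exact hle k))
  rw [Category.assoc] at hσ
  haveI : CompactSpace W₁.toScheme := isCompact_iff_compactSpace.mp hW₁c
  haveI : QuasiSeparatedSpace W₁.toScheme :=
    (isQuasiSeparated_iff_quasiSeparatedSpace _ W₁.2).mp (.of_quasiSeparatedSpace _)
  have hfW₁ : IsFTZ W₁.toScheme := isFTZ_of_hom W₁.ι (hD _)
  obtain ⟨A, q, ψ, hA, hψ, hcomm, hqψ⟩ := exists_affine_extension W σ hW f t hWf htcov (fun k => by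
      show W.topIso.hom (σ.appTop (t k)) = _
      rw [hts k, Scheme.Opens.ι_appTop, Scheme.Opens.topIso_hom, ← CommRingCat.comp_apply, ← Functor.map_comp]
      rfl)
    htaff (fun k => exists_closure_eq_top hfW₁ (htaff k))
  haveI := hA
  haveI : IsAffineHom (c.π.app k₁) := isAffineHom_π_app D c hc k₁
  haveI : IsAffineHom (eV.hom ≫ c.π.app k₁) := inferInstance
  haveI : IsAffineHom q := inferInstance
  have hrange' : Set.range (S.homOfLE (inf_le_right : V ⊓ U ≤ U)) ⊆ Set.range W.ι := by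
    rintro _ ⟨x, rfl⟩
    rw [Scheme.Opens.range_ι]
    show U.ι (S.homOfLE inf_le_right x) ∈ V
    rw [← Scheme.Hom.comp_apply, Scheme.homOfLE_ι]
    exact x.2.1
  let l : (V ⊓ U).toScheme ⟶ W.toScheme := IsOpenImmersion.lift W.ι (S.homOfLE inf_le_right) hrange'
  have hl : l ≫ W.ι = S.homOfLE inf_le_right := IsOpenImmersion.lift_fac _ _ _
  have hlj : l ≫ j = S.homOfLE inf_le_left := by
    rw [← cancel_mono V.ι, Category.assoc, hj, reassoc_of% hl, Scheme.homOfLE_ι, Scheme.homOfLE_ι]
  obtain ⟨G, g, iP, iQ, hg, hiP, hiQ, hcov, -, -⟩ := exists_affineHom_glue V U hVU W₁.ι ψ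
    (eV.hom ≫ c.π.app k₁) q (l ≫ σ) (by rw [Category.assoc, hσ, reassoc_of% hlj])
    (by rw [Category.assoc, ← hcomm, reassoc_of% hl])
    (fun x hx => hqψ (show x ∈ q ⁻¹ᵁ ψ.opensRange from hx))
    (fun x hx => by
      rw [Scheme.Opens.range_ι] at hx
      have h2 : eV.hom x ∈ (c.π.app k₁ ⁻¹ᵁ W₁) := hx
      rw [hW₁] at h2
      obtain ⟨y, hy⟩ := h2
      obtain rfl : j y = x := eV.hom.isOpenEmbedding.injective hy
      rw [← Scheme.Hom.comp_apply, hj, Scheme.Hom.comp_apply]
      exact (W.ι y).2)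
  haveI := hg
  haveI := hiP
  haveI := hiQ
  refine ⟨G, g, inferInstance, ⟨?_⟩, ?_⟩
  · rw [show (Set.univ : Set G) = Set.range iP ∪ Set.range iQ from (Set.eq_univ_of_forall fun z => hcov z).symm]
    exact (isCompact_range iP.continuous).union (isCompact_range iQ.continuous)
  · refine (IsZariskiLocalAtSource.iff_of_iSup_eq_top (P := @LocallyOfFiniteType)
      (fun b : Bool => bif b then iP.opensRange else iQ.opensRange) ?_).2 fun b => ?_
    · rw [iSup_bool_eq]
      exact eq_top_iff.2 fun z _ => hcov z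
    have key : ∀ {A : Scheme.{u}} (i : A ⟶ G) [IsOpenImmersion i], IsFTZ A →
        LocallyOfFiniteType (i.opensRange.ι ≫ IsTerminal.from specULiftZIsTerminal G) := by
      intro A i _ h
      have h2 : IsFTZ i.opensRange.toScheme := isFTZ_of_hom i.isoOpensRange.inv h
      rw [specULiftZIsTerminal.hom_ext (i.opensRange.ι ≫ _) (IsTerminal.from specULiftZIsTerminal _)]
      exact h2
    cases b
    · exact key iQ (isFTZ_spec A)
    · exact key iP (hD _)

/-- Adding one affine open. -/
theorem hasFTZ_step {S : Scheme.{u}} [QuasiSeparatedSpace S] (V U : S.Opens) (hVU : V ⊔ U = ⊤)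
    (hVc : IsCompact (V : Set S)) (hU : IsAffineOpen U) (h : HasFTZ V.toScheme) : HasFTZ S := by
  obtain ⟨V₀, π, hπ, hc₀, hf₀⟩ := h
  haveI := hπ
  haveI := hc₀
  haveI := isLocallyNoetherian_of_isFTZ hf₀
  haveI : ∀ {N N' : (Idx π)ᵒᵖ} (a : N ⟶ N'), IsAffineHom ((sys π).map a) := fun a => inferInstance
  obtain ⟨hL⟩ := nonempty_isLimit_cone π
  haveI : ∀ N, CompactSpace ((sys π).obj N) := fun N => compactSpace_stage π N.unop
  haveI : ∀ N, QuasiSeparatedSpace ((sys π).obj N) := fun N => quasiSeparatedSpace_stage π N.unop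
  exact hasFTZ_glue V U hVU hVc hU (sys π) (cone π) hL (fun N => isFTZ_stage π hf₀ N.unop) (Iso.refl _)

/-- Every qcqs scheme is affine over a quasi-compact scheme locally of finite type over the integers. -/
theorem hasFTZ (S : Scheme.{u}) [CompactSpace S] [QuasiSeparatedSpace S] : HasFTZ S := by
  suffices h : HasFTZ (⊤ : S.Opens).toScheme from h.of_iso S.topIso.symm
  refine compact_open_induction_on (P := fun O : S.Opens => HasFTZ O.toScheme) ⊤ isCompact_univ ?_ ?_
  · haveI : IsAffine (⊥ : S.Opens).toScheme := isAffineOpen_bot S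
    exact hasFTZ_of_isAffine _
  intro T hT U hTU
  let O : S.Opens := T ⊔ U.1
  haveI : QuasiSeparatedSpace O.toScheme :=
    (isQuasiSeparated_iff_quasiSeparatedSpace _ O.2).mp (.of_quasiSeparatedSpace _)
  have hTO : O.ι.opensRange ≥ T := by rw [Scheme.Opens.opensRange_ι]; exact le_sup_left
  refine hasFTZ_step (O.ι ⁻¹ᵁ T) (O.ι ⁻¹ᵁ U.1) ?_ ?_ ?_ (hTU.of_iso ?_)
  · rw [← Scheme.Hom.preimage_sup, Scheme.Opens.ι_preimage_self]
  · rw [O.ι.isOpenEmbedding.isEmbedding.isCompact_iff]
    show IsCompact (O.ι '' (O.ι ⁻¹' (T : Set S)))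
    rw [Set.image_preimage_eq_of_subset (by rw [Scheme.Opens.range_ι]; exact le_sup_left)]
    exact hT
  · exact U.2.preimage_of_isOpenImmersion O.ι (by rw [Scheme.Opens.opensRange_ι]; exact le_sup_right)
  · exact IsOpenImmersion.isoOfRangeEq ((O.ι ⁻¹ᵁ T).ι ≫ O.ι) T.ι (by
      rw [Scheme.Hom.comp_base]
      simp only [TopCat.coe_comp, Set.range_comp, Scheme.Opens.range_ι]
      exact Set.image_preimage_eq_of_subset (by rw [Scheme.Opens.range_ι]; exact le_sup_left))

end Groth.Agent.NApproxLib
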