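import Groth.Agent.NApproxLib.Over

/-!
# Tails of directed systems
-/

set_option autoImplicit false
set_option backward.isDefEq.respectTransparency false
set_option backward.defeqAttrib.useBackward true
set_option linter.style.haveILetI false

universe u

open CategoryTheory CategoryTheory.Limits AlgebraicGeometry Opposite

noncomputable section

namespace Groth.Agent.NApproxLib

variable {J : Type u} [Preorder J] [IsDirected J (· ≤ ·)] (j₀ : J)

/-- The indices above a given one. -/
abbrev Above : Type u := {j : J // j₀ ≤ j}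

instance : IsDirected (Above j₀) (· ≤ ·) :=
  ⟨fun a b => by
    obtain ⟨c, ha, hb⟩ := exists_ge_ge a.1 b.1
    exact ⟨⟨c, a.2.trans ha⟩, ha, hb⟩⟩

instance : Nonempty (Above j₀) := ⟨⟨j₀, le_rfl⟩⟩

/-- The inclusion of a tail. -/
def aboveFunctor : (Above j₀)ᵒᵖ ⥤ Jᵒᵖ :=
  (Monotone.functor (f := fun j : Above j₀ => j.1) fun _ _ h => h).op

instance initial_aboveFunctor : (aboveFunctor j₀).Initial := by
  refine Functor.initial_of_exists_of_isCofiltered _ (fun d => ?_) (fun {d c} s s' => ⟨c, 𝟙 c, Subsingleton.elim _ _⟩)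
  obtain ⟨c, h0, hd⟩ := exists_ge_ge j₀ d.unop
  exact ⟨op ⟨c, h0⟩, ⟨(homOfLE hd).op⟩⟩

/-- Restrict a limit to a tail. -/
def isLimitTail {C : Type*} [Category C] {D : Jᵒᵖ ⥤ C} {c : Cone D} (hc : IsLimit c) :
    IsLimit (c.whisker (aboveFunctor j₀)) :=
  (Functor.Initial.isLimitWhiskerEquiv (aboveFunctor j₀) c).symm hc

end Groth.Agent.NApproxLib
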