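import Groth.Agent.NApproxLib.Tail
import Groth.Agent.AffLim.Immersion
import Groth.Agent.ChowLib.General
import Groth.Agent.AmpleEmb.Compose
import Groth.Agent.S7395
import Groth.Agent.S7379
import Groth.Agent.S0594

/-!
# A proper morphism is a limit of proper morphisms of finite presentation
-/

set_option autoImplicit false
set_option backward.isDefEq.respectTransparency false
set_option backward.defeqAttrib.useBackward true
set_option linter.style.haveILetI false

universe u

open CategoryTheory CategoryTheory.Limits AlgebraicGeometry Opposite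

noncomputable section

namespace Groth.Agent.NApproxLib

attribute [local instance] IsCofiltered.isConnected

/-- In a system of closed subschemes with proper limit some member is proper. -/
theorem exists_isProper_stage {I : Type u} [Category.{u} I] [IsCofiltered I] {X' S : Scheme.{u}} [CompactSpace S]
    [QuasiSeparatedSpace S] (f' : X' ⟶ S) [IsSeparated f'] [LocallyOfFiniteType f'] [QuasiCompact f']
    (D : I ⥤ Over X') (c : Cone D) (hc : IsLimit c) [∀ i, IsClosedImmersion (D.obj i).hom]
    [IsClosedImmersion c.pt.hom] [IsProper (c.pt.hom ≫ f')] : ∃ i, IsProper ((D.obj i).hom ≫ f') := by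
  obtain ⟨n, X'', π, jc, hjc, hjcf, hπ, hsurj⟩ := ChowLib.exists_chow_general f'
  haveI := hjc
  haveI := hπ
  haveI := hsurj
  let β := CohB1.ProjSpaceOver.toBase n S
  haveI : IsProper β := AmpleEmb.isProper_toBase n S
  haveI : CompactSpace X' := QuasiCompact.compactSpace_of_compactSpace f'
  haveI : QuasiSeparatedSpace X' := quasiSeparatedSpace_of_quasiSeparated f'
  haveI : CompactSpace X'' := QuasiCompact.compactSpace_of_compactSpace π
  haveI : QuasiSeparatedSpace X'' := quasiSeparatedSpace_of_quasiSeparated π
  haveI : CompactSpace ↥(CohB1.ProjSpaceOver n S) := QuasiCompact.compactSpace_of_compactSpace β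
  haveI : QuasiSeparatedSpace ↥(CohB1.ProjSpaceOver n S) := quasiSeparatedSpace_of_quasiSeparated β
  haveI : LocallyOfFiniteType jc := by
    haveI : LocallyOfFiniteType (jc ≫ β) := by rw [show jc ≫ β = π ≫ f' from hjcf]; infer_instance
    exact locallyOfFiniteType_of_comp jc β
  -- the system of preimages
  let E := D ⋙ Over.pullback π ⋙ Over.forget X''
  let cE : Cone E := (Over.forget X'').mapCone ((Over.pullback π).mapCone c)
  have hE : IsLimit cE := isLimitOfPreserves (Over.forget X'') (isLimitOfPreserves (Over.pullback π) hc)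
  have hclosed : ∀ {i k} (a : i ⟶ k), IsClosedImmersion (E.map a) := fun {i k} a => by
    haveI : IsClosedImmersion ((E.map a) ≫ pullback.snd (D.obj k).hom π) := by
      have h : (E.map a) ≫ pullback.snd (D.obj k).hom π = pullback.snd (D.obj i).hom π :=
        Over.w ((Over.pullback π).map (D.map a))
      rw [h]
      infer_instance
    exact IsClosedImmersion.of_comp (E.map a) (pullback.snd (D.obj k).hom π)
  haveI : ∀ (i k : I) (a : i ⟶ k), IsClosedImmersion (E.map a) := fun i k a => hclosed a
  haveI : ∀ i, CompactSpace (E.obj i) := fun i =>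
    QuasiCompact.compactSpace_of_compactSpace (pullback.snd (D.obj i).hom π)
  haveI : ∀ i, QuasiSeparatedSpace (E.obj i) := fun i =>
    quasiSeparatedSpace_of_quasiSeparated (pullback.snd (D.obj i).hom π)
  let t : E ⟶ (Functor.const I).obj (CohB1.ProjSpaceOver n S) :=
    { app := fun i => pullback.snd (D.obj i).hom π ≫ jc
      naturality := fun i k a => by
        have h : (E.map a) ≫ pullback.snd (D.obj k).hom π = pullback.snd (D.obj i).hom π :=
          Over.w ((Over.pullback π).map (D.map a))
        simp [reassoc_of% h] }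
  haveI : ∀ i, LocallyOfFiniteType (t.app i) := fun i =>
    inferInstanceAs (LocallyOfFiniteType (pullback.snd (D.obj i).hom π ≫ jc))
  let i₀ : I := Classical.arbitrary I
  haveI : IsClosedImmersion (cE.π.app i₀ ≫ t.app i₀) := by
    have h : cE.π.app i₀ ≫ t.app i₀ = pullback.snd c.pt.hom π ≫ jc := by
      have h : (cE.π.app i₀) ≫ pullback.snd (D.obj i₀).hom π = pullback.snd c.pt.hom π :=
        Over.w ((Over.pullback π).map (c.π.app i₀))
      show cE.π.app i₀ ≫ pullback.snd (D.obj i₀).hom π ≫ jc = _
      rw [reassoc_of% h]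
    rw [h]
    let q := pullback.snd c.pt.hom π ≫ jc
    haveI : IsProper (q ≫ β) := by
      have h2 : q ≫ β = pullback.fst c.pt.hom π ≫ (c.pt.hom ≫ f') := by
        show (pullback.snd _ _ ≫ jc) ≫ _ = _
        rw [Category.assoc, show jc ≫ β = π ≫ f' from hjcf, pullback.condition_assoc]
      rw [h2]
      infer_instance
    haveI : IsProper q := IsProper.of_comp q β
    exact AffLim.isClosedImmersion_of_isImmersion q q.isClosedMap.isClosed_range
  obtain ⟨i, hi⟩ := Groth.Agent.S0594.result (CohB1.ProjSpaceOver n S) E t cE hE i₀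
  refine ⟨i, ?_⟩
  have hi' : IsClosedImmersion (pullback.snd (D.obj i).hom π ≫ jc) := hi
  haveI : IsProper (pullback.fst (D.obj i).hom π ≫ (D.obj i).hom ≫ f') := by
    rw [pullback.condition_assoc, ← show jc ≫ β = π ≫ f' from hjcf, ← Category.assoc]
    infer_instance
  haveI : Surjective (pullback.fst (D.obj i).hom π) := MorphismProperty.pullback_fst _ _ hsurj
  haveI : UniversallyClosed ((D.obj i).hom ≫ f') :=
    UniversallyClosed.of_comp_surjective (pullback.fst (D.obj i).hom π) _
  exact {}

/-- A proper morphism is a limit of proper morphisms of finite presentation with closed immersions as transition maps. -/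
theorem exists_proper_limit {X S : Scheme.{u}} (f : X ⟶ S) [IsProper f] [CompactSpace S] [QuasiSeparatedSpace S] :
    ∃ (J : Type u) (_ : Preorder J) (_ : IsDirected J (fun a b => a ≤ b)) (_ : Nonempty J)
      (D : Jᵒᵖ ⥤ Over S) (c : Cone D) (_ : IsLimit c) (_ : c.pt ≅ Over.mk f),
      (∀ (i j : Jᵒᵖ) (a : i ⟶ j), IsClosedImmersion (D.map a).left) ∧
      ∀ i, IsClosedImmersion (c.π.app i).left ∧ IsProper (D.obj i).hom ∧
        LocallyOfFinitePresentation (D.obj i).hom := by
  obtain ⟨X', f', j, hsep, hlfp, hqc, hj, hjf⟩ := Groth.Agent.S7395.result f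
  haveI : CompactSpace X' := QuasiCompact.compactSpace_of_compactSpace f'
  haveI : QuasiSeparatedSpace X' := quasiSeparatedSpace_of_quasiSeparated f'
  obtain ⟨I, hp, hd, hne, D, c, hc, hobj, ⟨e⟩⟩ := Groth.Agent.S7379.result j
  haveI : ∀ i, IsClosedImmersion (D.obj i).hom := fun i => (hobj i).1
  have hept : c.pt.hom ≫ f' = e.hom.left ≫ f := by
    rw [← hjf, reassoc_of% (show e.hom.left ≫ j = c.pt.hom from Over.w e.hom)]
  haveI : IsProper (c.pt.hom ≫ f') := by rw [hept]; infer_instance
  haveI : IsClosedImmersion c.pt.hom := by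
    rw [← show e.hom.left ≫ j = c.pt.hom from Over.w e.hom]
    haveI : IsIso e.hom.left := inferInstanceAs (IsIso ((Over.forget X').map e.hom))
    infer_instance
  obtain ⟨i, hi⟩ := exists_isProper_stage f' D c hc
  haveI := hi
  have hcl : ∀ {k l : Iᵒᵖ} (a : k ⟶ l), IsClosedImmersion (D.map a).left := fun {k l} a => by
    haveI : IsClosedImmersion ((D.map a).left ≫ (D.obj l).hom) := by rw [Over.w]; infer_instance
    exact IsClosedImmersion.of_comp (D.map a).left (D.obj l).hom
  let D' := aboveFunctor i.unop ⋙ D ⋙ Over.map f'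
  let c' : Cone D' := (Over.map f').mapCone (c.whisker (aboveFunctor i.unop))
  have hl : IsLimit ((Over.forget S).mapCone c') :=
    isLimitOfPreserves (Over.forget X') (isLimitTail i.unop hc)
  refine ⟨Above i.unop, inferInstance, inferInstance, inferInstance, D', c', isLimitOfReflects (Over.forget S) hl,
    Over.isoMk ((Over.forget _).mapIso e) hept.symm, fun k l a => hcl _, fun k => ⟨?_, ?_, ?_⟩⟩
  · show IsClosedImmersion (c.π.app ((aboveFunctor i.unop).obj k)).left
    haveI : IsClosedImmersion ((c.π.app ((aboveFunctor i.unop).obj k)).left ≫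
        (D.obj ((aboveFunctor i.unop).obj k)).hom) := by
      rw [show (c.π.app ((aboveFunctor i.unop).obj k)).left ≫ (D.obj ((aboveFunctor i.unop).obj k)).hom =
          c.pt.hom from Over.w (c.π.app _), ← show e.hom.left ≫ j = c.pt.hom from Over.w e.hom]
      haveI : IsIso e.hom.left := inferInstanceAs (IsIso ((Over.forget X').map e.hom))
      infer_instance
    exact IsClosedImmersion.of_comp _ (D.obj ((aboveFunctor i.unop).obj k)).hom
  · let a : (aboveFunctor i.unop).obj k ⟶ i := (homOfLE k.unop.2).op
    haveI := hcl a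
    show IsProper ((D.obj ((aboveFunctor i.unop).obj k)).hom ≫ f')
    rw [← Over.w (D.map a), Category.assoc]
    infer_instance
  · haveI := (hobj ((aboveFunctor i.unop).obj k)).2
    exact inferInstanceAs (LocallyOfFinitePresentation ((D.obj ((aboveFunctor i.unop).obj k)).hom ≫ f'))

end Groth.Agent.NApproxLib
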