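import Mathlib

/-!
# Morphisms out of a scheme theoretic image
-/

set_option autoImplicit false
set_option backward.isDefEq.respectTransparency false
set_option linter.style.haveILetI false

universe u

open CategoryTheory CategoryTheory.Limits AlgebraicGeometry

noncomputable section

namespace Groth.Agent.NApproxLib

variable {V Y W S : Scheme.{u}} (j : V ⟶ Y) [QuasiCompact j]

/-- Morphisms from a scheme theoretic image into a separated scheme are determined by their restriction. -/
theorem image_hom_ext (p : W ⟶ S) [IsSeparated p] (a b : j.image ⟶ W) (hp : a ≫ p = b ≫ p)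
    (h : j.toImage ≫ a = j.toImage ≫ b) : a = b := by
  let d : j.image ⟶ pullback p p := pullback.lift a b hp
  let e : pullback d (pullback.diagonal p) ⟶ j.image := pullback.fst _ _
  haveI : IsClosedImmersion e := MorphismProperty.pullback_fst _ _ inferInstance
  let l : V ⟶ pullback d (pullback.diagonal p) := pullback.lift j.toImage (j.toImage ≫ a) (by
    apply pullback.hom_ext
    · simp [d]
    · simp [d, h])
  have hl : l ≫ e ≫ j.imageι = j := by rw [pullback.lift_fst_assoc, j.toImage_imageι]
  have hker : (e ≫ j.imageι).ker ≤ j.imageι.ker := by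
    rw [show j.imageι.ker = j.ker from j.ker.ker_subschemeι]
    conv_rhs => rw [← hl]
    exact Scheme.Hom.le_ker_comp _ _
  let s := IsClosedImmersion.lift (e ≫ j.imageι) j.imageι hker
  have hs : s ≫ e = 𝟙 _ := by
    rw [← cancel_mono j.imageι, Category.id_comp, Category.assoc]
    exact IsClosedImmersion.lift_fac _ _ _
  have he : e ≫ a = e ≫ b := by
    have h1 := congrArg (· ≫ pullback.fst p p) (pullback.condition (f := d) (g := pullback.diagonal p))
    have h2 := congrArg (· ≫ pullback.snd p p) (pullback.condition (f := d) (g := pullback.diagonal p))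
    simp only [Category.assoc, d, pullback.lift_fst, pullback.lift_snd, pullback.diagonal_fst, pullback.diagonal_snd,
      Category.comp_id] at h1 h2
    exact h1.trans h2.symm
  have := congrArg (s ≫ ·) he
  simpa [reassoc_of% hs] using this

/-- A map into the image that lifts a given map. -/
theorem exists_image_map {Y' : Scheme.{u}} (j' : V ⟶ Y') [QuasiCompact j'] (g : Y' ⟶ Y) (hg : j' ≫ g = j) :
    ∃ t : j'.image ⟶ j.image, t ≫ j.imageι = j'.imageι ≫ g ∧ j'.toImage ≫ t = j.toImage := by
  have hker : j.imageι.ker ≤ (j'.imageι ≫ g).ker := by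
    rw [show j.imageι.ker = j.ker from j.ker.ker_subschemeι, Scheme.Hom.ker_comp,
      show j'.imageι.ker = j'.ker from j'.ker.ker_subschemeι, ← Scheme.Hom.ker_comp, hg]
  refine ⟨IsClosedImmersion.lift j.imageι _ hker, IsClosedImmersion.lift_fac _ _ _, ?_⟩
  rw [← cancel_mono j.imageι, Category.assoc, IsClosedImmersion.lift_fac, ← Category.assoc, j'.toImage_imageι, hg,
    j.toImage_imageι]

end Groth.Agent.NApproxLib
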