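import Groth.Agent.NApproxLib.Main
import Groth.Agent.NApproxLib.ImageLimit

/-!
# A morphism locally of finite type is an immersion into one of finite presentation
-/

set_option autoImplicit false
set_option backward.isDefEq.respectTransparency false
set_option backward.defeqAttrib.useBackward true
set_option linter.style.haveILetI false

universe u

open CategoryTheory CategoryTheory.Limits AlgebraicGeometry TopologicalSpace Opposite

noncomputable section

namespace Groth.Agent.NApproxLib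

/-- Closed immersions on pieces give an immersion. -/
theorem isImmersion_of_pieces {X Y : Scheme.{u}} (j : X ⟶ Y) {κ : Type u} (O : κ → X.Opens) (hO : ⨆ k, O k = ⊤)
    {P : κ → Scheme.{u}} (m : ∀ k, P k ⟶ Y) [∀ k, IsOpenImmersion (m k)] (jk : ∀ k, (O k).toScheme ⟶ P k)
    [∀ k, IsClosedImmersion (jk k)] (hcomm : ∀ k, jk k ≫ m k = (O k).ι ≫ j)
    (hpre : ∀ k, j ⁻¹ᵁ (m k).opensRange = O k) : IsImmersion j := by
  let W : Y.Opens := ⨆ k, (m k).opensRange
  have hW : Set.range j ⊆ Set.range W.ι := by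
    rintro _ ⟨x, rfl⟩
    rw [Scheme.Opens.range_ι]
    obtain ⟨k, hk⟩ := Opens.mem_iSup.1 (show x ∈ ⨆ k, O k by rw [hO]; trivial)
    rw [← hpre k] at hk
    exact Opens.mem_iSup.2 ⟨k, hk⟩
  let j' : X ⟶ W.toScheme := IsOpenImmersion.lift W.ι j hW
  have hj' : j' ≫ W.ι = j := IsOpenImmersion.lift_fac _ _ _
  have hm : ∀ k, Set.range (m k) ⊆ Set.range W.ι := fun k => by
    rw [Scheme.Opens.range_ι]
    exact fun y hy => Opens.mem_iSup.2 ⟨k, hy⟩
  let m' : ∀ k, P k ⟶ W.toScheme := fun k => IsOpenImmersion.lift W.ι (m k) (hm k)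
  have hm' : ∀ k, m' k ≫ W.ι = m k := fun k => IsOpenImmersion.lift_fac _ _ _
  haveI : ∀ k, IsOpenImmersion (m' k) := fun k => by
    haveI : IsOpenImmersion (m' k ≫ W.ι) := by rw [hm']; infer_instance
    exact IsOpenImmersion.of_comp (m' k) W.ι
  have hr : ∀ k, (m' k).opensRange = W.ι ⁻¹ᵁ (m k).opensRange := fun k => by
    ext z
    show z ∈ Set.range (m' k) ↔ W.ι z ∈ Set.range (m k)
    constructor
    · rintro ⟨p, rfl⟩
      exact ⟨p, by rw [← Scheme.Hom.comp_apply, hm']⟩
    · rintro ⟨p, hp⟩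
      refine ⟨p, W.ι.isOpenEmbedding.injective ?_⟩
      rw [← Scheme.Hom.comp_apply, hm', hp]
  haveI : IsClosedImmersion j' := by
    refine (IsZariskiLocalAtTarget.iff_of_iSup_eq_top (P := @IsClosedImmersion) (fun k => (m' k).opensRange) ?_).2
      fun k => ?_
    · simp_rw [hr]
      rw [← Scheme.Hom.preimage_iSup, Scheme.Opens.ι_preimage_self]
    · have hcomm' : (O k).ι ≫ j' = jk k ≫ m' k := by
        rw [← cancel_mono W.ι, Category.assoc, Category.assoc, hj', hm', hcomm]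
      have sq : IsPullback (jk k) (O k).ι (m' k) j' :=
        IsOpenImmersion.isPullback _ _ _ _ hcomm' (by
          rw [hr, ← Scheme.Hom.comp_preimage, hj', hpre, Scheme.Opens.opensRange_ι])
      refine (MorphismProperty.arrow_mk_iso_iff @IsClosedImmersion (morphismRestrictOpensRange j' (m' k))).2 ?_
      refine (MorphismProperty.arrow_mk_iso_iff @IsClosedImmersion
        (Arrow.isoMk sq.flip.isoPullback (Iso.refl _) ?_)).1 (inferInstance : IsClosedImmersion (jk k))
      exact (sq.flip.isoPullback_hom_snd).trans (Category.comp_id _).symm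
  rw [← hj']
  infer_instance

/-- A morphism locally of finite type out of a limit is an immersion into a product of a stage with the base. -/
theorem exists_immersion_stage {I : Type u} [SmallCategory I] [IsCofiltered I] (D : I ⥤ Scheme.{u}) (c : Cone D)
    (hL : IsLimit c) [∀ {i k} (a : i ⟶ k), IsAffineHom (D.map a)] [∀ i, CompactSpace (D.obj i)]
    [∀ i, QuasiSeparatedSpace (D.obj i)] [CompactSpace c.pt] {S : Scheme.{u}} (f : c.pt ⟶ S) [LocallyOfFiniteType f] :
    ∃ l : I, IsImmersion (pullback.lift (c.π.app l) f (specULiftZIsTerminal.hom_ext _ _) :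
      c.pt ⟶ pullback (IsTerminal.from specULiftZIsTerminal (D.obj l)) (IsTerminal.from specULiftZIsTerminal S)) := by
  classical
  let X := c.pt
  -- a finite affine cover
  have hcov : ∀ x : X, ∃ (U : S.Opens) (O : X.Opens), IsAffineOpen U ∧ IsAffineOpen O ∧ x ∈ O ∧ O ≤ f ⁻¹ᵁ U :=
    fun x => by
      obtain ⟨_, ⟨U, hU, rfl⟩, hxU, -⟩ :=
        S.isBasis_affineOpens.exists_subset_of_mem_open (Set.mem_univ (f x)) isOpen_univ
      obtain ⟨_, ⟨O, hO, rfl⟩, hxO, hle⟩ := X.isBasis_affineOpens.exists_subset_of_mem_open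
        (show x ∈ ((f ⁻¹ᵁ U : X.Opens) : Set X) from hxU) (Opens.isOpen _)
      exact ⟨U, O, hU, hO, hxO, hle⟩
  choose U O hU hO hxO hle using hcov
  obtain ⟨t, ht⟩ := isCompact_univ.elim_finite_subcover (fun x => (O x : Set X)) (fun x => (O x).isOpen)
    fun x _ => Set.mem_iUnion.2 ⟨x, hxO x⟩
  -- opens and generators from stages
  have hstage : ∀ x : X, ∃ (i : I) (V : (D.obj i).Opens), IsAffineOpen V ∧ c.π.app i ⁻¹ᵁ V = O x :=
    fun x => exists_isAffineOpen_preimage_eq D c hL (O x) (hO x)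
  choose i V hV hVO using hstage
  have hgen : ∀ x : X, ∃ G : Finset Γ(X, O x), ∀ R : Subring Γ(X, O x),
      (∀ r, f.appLE (U x) (O x) (hle x) r ∈ R) → (∀ b ∈ G, b ∈ R) → R = ⊤ := fun x => by
    have h := HasRingHomProperty.appLE (P := @LocallyOfFiniteType) f inferInstance ⟨U x, hU x⟩ ⟨O x, hO x⟩ (hle x)
    letI := (f.appLE (U x) (O x) (hle x)).hom.toAlgebra
    haveI : Algebra.FiniteType Γ(S, U x) Γ(X, O x) := h
    obtain ⟨G, hG⟩ := (Algebra.FiniteType.out : (⊤ : Subalgebra Γ(S, U x) Γ(X, O x)).FG)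
    refine ⟨G, fun R h1 h2 => eq_top_iff.mpr fun z _ => ?_⟩
    exact (Algebra.adjoin_le (S := { R with algebraMap_mem' := h1 }) fun w hw => h2 w hw)
      (hG ▸ Algebra.mem_top : z ∈ Algebra.adjoin Γ(S, U x) (G : Set Γ(X, O x)))
  choose G hG using hgen
  have hsec : ∀ (x : X) (z : Γ(X, O x)), ∃ (k : I) (a : k ⟶ i x),
      ∃ y : Γ(D.obj k, D.map a ⁻¹ᵁ V x), ∀ e : O x ≤ c.π.app k ⁻¹ᵁ (D.map a ⁻¹ᵁ V x),
        (c.π.app k).appLE _ (O x) e y = z := fun x z => by
    haveI : ∀ l : Over (i x), IsAffine ((opensDiagram D (i x) (V x)).obj l) := fun l => (hV x).preimage (D.map l.hom)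
    let z' : Γ(X, c.π.app (i x) ⁻¹ᵁ V x) := X.presheaf.map (homOfLE (hVO x).le).op z
    obtain ⟨l, u, hu⟩ := exists_appTop_π_eq_of_isAffine_of_isLimit _ _ (isLimitOpensCone D c hL (i x) (V x))
      ((c.π.app (i x) ⁻¹ᵁ V x).topIso.inv z')
    refine ⟨l.left, l.hom, (D.map l.hom ⁻¹ᵁ V x).topIso.hom u, fun e => ?_⟩
    have h2 : (c.π.app (i x) ⁻¹ᵁ V x).topIso.hom (((opensCone D c (i x) (V x)).π.app l).appTop u) = z' := by
      rw [hu, ← CommRingCat.comp_apply, Iso.inv_hom_id]
      rfl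
    have h3 : X.presheaf.map (homOfLE (hVO x).ge).op z' = z := by
      show X.presheaf.map _ (X.presheaf.map _ z) = z
      rw [← CommRingCat.comp_apply, ← Functor.map_comp,
        show (homOfLE (hVO x).le).op ≫ (homOfLE (hVO x).ge).op = 𝟙 (op (O x)) from rfl, X.presheaf.map_id]
      rfl
    refine Eq.trans ?_ ((congrArg (X.presheaf.map (homOfLE (hVO x).ge).op) h2).trans h3)
    show ((D.map l.hom ⁻¹ᵁ V x).topIso.hom ≫ (c.π.app l.left).appLE _ _ e) u =
      (((opensCone D c (i x) (V x)).π.app l).appTop ≫ (c.π.app (i x) ⁻¹ᵁ V x).topIso.hom ≫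
        X.presheaf.map (homOfLE (hVO x).ge).op) u
    refine congrFun (congrArg DFunLike.coe (congrArg CommRingCat.Hom.hom ?_)) u
    simp [opensCone, Scheme.Hom.resLE_appLE, Scheme.Hom.app_eq_appLE]
    exact (Scheme.Hom.appLE_map _ _ _).symm
  choose k a y hy using hsec
  -- a common stage
  let objs : Finset I := t.image i ∪ t.biUnion fun x => (G x).image (k x)
  have hi_mem : ∀ x : t, i x.1 ∈ objs := fun x => Finset.mem_union_left _ (Finset.mem_image_of_mem i x.2)
  have hk_mem : ∀ (x : t) (z : Γ(X, O x.1)), z ∈ G x.1 → k x.1 z ∈ objs := fun x z hz =>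
    Finset.mem_union_right _ (Finset.mem_biUnion.2 ⟨x.1, x.2, Finset.mem_image.2 ⟨z, hz, rfl⟩⟩)
  let arrs : Finset (Σ' (X Y : I) (_ : X ∈ objs) (_ : Y ∈ objs), X ⟶ Y) :=
    t.attach.biUnion fun x => (G x.1).attach.image fun z =>
      ⟨k x.1 z.1, i x.1, hk_mem x z.1 z.2, hi_mem x, a x.1 z.1⟩
  obtain ⟨l, T, hT⟩ := IsCofiltered.inf_exists objs arrs
  let hli : ∀ x : t, l ⟶ i x.1 := fun x => T (hi_mem x)
  have hlcomm : ∀ (x : t) (z : Γ(X, O x.1)) (hz : z ∈ G x.1), T (hk_mem x z hz) ≫ a x.1 z = hli x := fun x z hz =>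
    hT (hk_mem x z hz) (hi_mem x) (Finset.mem_biUnion.2 ⟨x, Finset.mem_attach _ _,
      Finset.mem_image.2 ⟨⟨z, hz⟩, Finset.mem_attach _ _, rfl⟩⟩)
  let hlk : ∀ (x : t) (z : Γ(X, O x.1)), z ∈ G x.1 → (l ⟶ k x.1 z) := fun x z hz => T (hk_mem x z hz)
  let X' := pullback (IsTerminal.from specULiftZIsTerminal (D.obj l)) (IsTerminal.from specULiftZIsTerminal S)
  let j : X ⟶ X' := pullback.lift (c.π.app l) f (specULiftZIsTerminal.hom_ext _ _)
  refine ⟨l, ?_⟩
  change IsImmersion j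
  let V' : t → (D.obj l).Opens := fun x => D.map (hli x) ⁻¹ᵁ V x.1
  have hV'O : ∀ x : t, c.π.app l ⁻¹ᵁ V' x = O x.1 := fun x => by
    rw [← hVO x.1, ← Scheme.Hom.comp_preimage, c.w]
  let P : t → Scheme.{u} := fun x => pullback ((V' x).ι ≫ IsTerminal.from specULiftZIsTerminal (D.obj l))
    ((U x.1).ι ≫ IsTerminal.from specULiftZIsTerminal S)
  let m : ∀ x : t, P x ⟶ X' := fun x =>
    pullback.map _ _ _ _ (V' x).ι (U x.1).ι (𝟙 _) (Category.comp_id _) (Category.comp_id _)
  haveI : ∀ x : t, IsAffine (V' x).toScheme := fun x => (hV x.1).preimage (D.map (hli x))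
  haveI : ∀ x : t, IsAffine (U x.1).toScheme := fun x => hU x.1
  haveI : ∀ x : t, IsAffine (O x.1).toScheme := fun x => hO x.1
  haveI : ∀ x, IsOpenImmersion (m x) := fun x => inferInstance
  let jk : ∀ x : t, (O x.1).toScheme ⟶ P x := fun x =>
    pullback.lift ((c.π.app l).resLE (V' x) (O x.1) (hV'O x).ge) (f.resLE (U x.1) (O x.1) (hle x.1))
      (specULiftZIsTerminal.hom_ext _ _)
  haveI : ∀ x, IsClosedImmersion (jk x) := fun x => by
    haveI : IsAffine (P x) := inferInstanceAs (IsAffine (pullback _ _))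
    refine IsClosedImmersion.of_surjective_of_isAffine _ fun w => ?_
    have htop : ((jk x).appTop ≫ (O x.1).topIso.hom).hom.range = ⊤ := by
      refine hG x.1 _ (fun r => ⟨(pullback.snd _ _ : P x ⟶ _).appTop ((U x.1).topIso.inv r), ?_⟩) fun b hb => ?_
      · show ((U x.1).topIso.inv ≫ (pullback.snd _ _ : P x ⟶ _).appTop ≫ (jk x).appTop ≫ (O x.1).topIso.hom) r = _
        rw [← Scheme.Hom.comp_appTop_assoc, pullback.lift_snd]
        refine congrFun (congrArg DFunLike.coe (congrArg CommRingCat.Hom.hom ?_)) r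
        simp [Scheme.Hom.resLE_appLE, Scheme.Hom.app_eq_appLE]
        exact Scheme.Hom.appLE_map _ _ _
      · obtain ⟨q, hq⟩ : ∃ q : Γ(D.obj l, V' x), (c.π.app l).appLE (V' x) (O x.1) (hV'O x).ge q = b := by
          have hlw : D.map (hlk x b hb) ≫ D.map (a x.1 b) = D.map (hli x) := by
            rw [← D.map_comp]; exact congrArg D.map (hlcomm x b hb)
          have e1 : V' x ≤ D.map (hlk x b hb) ⁻¹ᵁ (D.map (a x.1 b) ⁻¹ᵁ V x.1) := by
            show D.map (hli x) ⁻¹ᵁ V x.1 ≤ _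
            rw [← Scheme.Hom.comp_preimage, hlw]
          have e2 : O x.1 ≤ c.π.app (k x.1 b) ⁻¹ᵁ (D.map (a x.1 b) ⁻¹ᵁ V x.1) := by
            rw [← Scheme.Hom.comp_preimage, c.w, hVO]
          exact ⟨(D.map (hlk x b hb)).appLE _ _ e1 (y x.1 b),
            (appLE_appLE' (c.π.app l) (D.map (hlk x b hb)) (c.π.app (k x.1 b)) (c.w _) (hV'O x).ge e1 e2 _).trans
              (hy x.1 b e2)⟩
        refine ⟨(pullback.fst _ _ : P x ⟶ _).appTop ((V' x).topIso.inv q), ?_⟩
        rw [← hq]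
        show ((V' x).topIso.inv ≫ (pullback.fst _ _ : P x ⟶ _).appTop ≫ (jk x).appTop ≫ (O x.1).topIso.hom) q = _
        rw [← Scheme.Hom.comp_appTop_assoc, pullback.lift_fst]
        refine congrFun (congrArg DFunLike.coe (congrArg CommRingCat.Hom.hom ?_)) q
        simp [Scheme.Hom.resLE_appLE, Scheme.Hom.app_eq_appLE]
        exact Scheme.Hom.appLE_map _ _ _
    obtain ⟨v, hv⟩ := htop.ge (show (O x.1).topIso.hom w ∈ (⊤ : Subring _) from trivial)
    exact ⟨v, (ConcreteCategory.bijective_of_isIso (O x.1).topIso.hom).1 hv⟩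
  refine isImmersion_of_pieces j (fun x : t => O x.1) ?_ m jk (fun x => ?_) fun x => ?_
  · exact eq_top_iff.2 fun z _ => by
      obtain ⟨x, hx, hzx⟩ := Set.mem_iUnion₂.1 (ht (Set.mem_univ z))
      exact Opens.mem_iSup.2 ⟨⟨x, hx⟩, hzx⟩
  · apply pullback.hom_ext
    · simp [jk, m, j, pullback.map]
    · simp [jk, m, j, pullback.map]
  · ext z
    show j z ∈ Set.range (m x) ↔ z ∈ O x.1
    rw [Scheme.Pullback.range_map]
    simp only [Scheme.Opens.range_ι, Set.mem_inter_iff, Set.mem_preimage]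
    rw [← Scheme.Hom.comp_apply, ← Scheme.Hom.comp_apply, pullback.lift_fst, pullback.lift_snd]
    constructor
    · rintro ⟨h, -⟩
      exact (hV'O x).le h
    · exact fun h => ⟨(hV'O x).ge h, hle x.1 h⟩

/-- A morphism locally of finite type from a qcqs scheme is an immersion followed by a morphism of finite presentation. -/
theorem exists_immersion_fp {X S : Scheme.{u}} (f : X ⟶ S) [LocallyOfFiniteType f] [CompactSpace X]
    [QuasiSeparatedSpace X] :
    ∃ (X' : Scheme.{u}) (f' : X' ⟶ S) (j : X ⟶ X'), LocallyOfFinitePresentation f' ∧ QuasiCompact f' ∧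
      QuasiSeparated f' ∧ IsImmersion j ∧ j ≫ f' = f := by
  obtain ⟨X₀, qX, hqX, hcX, hfX⟩ := hasFTZ X
  haveI := hqX
  haveI := hcX
  haveI := isLocallyNoetherian_of_isFTZ hfX
  obtain ⟨hL⟩ := nonempty_isLimit_cone qX
  haveI : ∀ i, CompactSpace ((sys qX).obj i) := fun i => compactSpace_stage qX i.unop
  haveI : ∀ i, QuasiSeparatedSpace ((sys qX).obj i) := fun i => quasiSeparatedSpace_stage qX i.unop
  haveI : ∀ {i k} (a : i ⟶ k), IsAffineHom ((sys qX).map a) := fun a => inferInstance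
  haveI : CompactSpace (cone qX).pt := ‹CompactSpace X›
  let f₁ : (cone qX).pt ⟶ S := f
  haveI : LocallyOfFiniteType f₁ := ‹LocallyOfFiniteType f›
  obtain ⟨l, hl⟩ := exists_immersion_stage (sys qX) (cone qX) hL f₁
  haveI : LocallyOfFinitePresentation (IsTerminal.from specULiftZIsTerminal ((sys qX).obj l)) := by
    haveI : LocallyOfFiniteType (IsTerminal.from specULiftZIsTerminal ((sys qX).obj l)) := isFTZ_stage qX hfX _
    infer_instance
  haveI : QuasiCompact (IsTerminal.from specULiftZIsTerminal ((sys qX).obj l)) := quasiCompact_of_compactSpace _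
  exact ⟨_, pullback.snd _ _, _, inferInstance, inferInstance, inferInstance, hl, pullback.lift_snd _ _ _⟩

end Groth.Agent.NApproxLib
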