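import Groth.Agent.NApproxLib.Stage
import Groth.Agent.AffLim.Existence

/-!
# An affine scheme over a noetherian scheme is the limit of its stages
-/

set_option autoImplicit false
set_option backward.isDefEq.respectTransparency false
set_option backward.defeqAttrib.useBackward true
set_option linter.style.haveILetI false
set_option linter.unusedSectionVars false

universe u

open CategoryTheory CategoryTheory.Limits AlgebraicGeometry TopologicalSpace Opposite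

noncomputable section

namespace Groth.Agent.NApproxLib

variable {V V₀ : Scheme.{u}} (π : V ⟶ V₀) [IsAffineHom π]

theorem appLE_congr_hom {X Y : Scheme.{u}} {f g : X ⟶ Y} (h : f = g) {U : Y.Opens} {W : X.Opens} (e : W ≤ f ⁻¹ᵁ U) :
    f.appLE U W e = g.appLE U W (h ▸ e) := by subst h; rfl

theorem le_preimage {X Y Z : Scheme.{u}} {f : X ⟶ Y} {g : Y ⟶ Z} {h : X ⟶ Z} (w : f ≫ g = h) (Q : Z.Opens) :
    h ⁻¹ᵁ Q ≤ f ⁻¹ᵁ (g ⁻¹ᵁ Q) := by subst w; exact le_rfl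

theorem appLE_appLE_apply {X Y Z : Scheme.{u}} (f : X ⟶ Y) (g : Y ⟶ Z) (h : X ⟶ Z) (w : f ≫ g = h) {U : Z.Opens}
    {Q : Y.Opens} {W : X.Opens} (e₁ : W ≤ f ⁻¹ᵁ Q) (e₂ : Q ≤ g ⁻¹ᵁ U) (e₃ : W ≤ h ⁻¹ᵁ U) (y : Γ(Z, U)) :
    f.appLE Q W e₁ (g.appLE U Q e₂ y) = h.appLE U W e₃ y := by
  subst w
  rw [← CommRingCat.comp_apply, Scheme.Hom.appLE_comp_appLE]

/-- Sections of the stage inject into those of the scheme. -/
theorem proj_appLE_injective (N : Idx π) {Q : V₀.Opens} (hQ : IsAffineOpen Q) :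
    Function.Injective ((proj π N).appLE (toBase π N ⁻¹ᵁ Q) (π ⁻¹ᵁ Q) (le_preimage (proj_toBase π N) Q)) := by
  have h := (toBundle π N).toImage_app_injective ⟨(sym π N).π ⁻¹ᵁ Q, RelSpecLib.isAffineOpen_preimage _ Q hQ⟩
  have key : ∀ (W : V.Opens) (e : W ≤ proj π N ⁻¹ᵁ (toBase π N ⁻¹ᵁ Q)), W = proj π N ⁻¹ᵁ (toBase π N ⁻¹ᵁ Q) →
      Function.Injective ((proj π N).appLE (toBase π N ⁻¹ᵁ Q) W e) := by
    intro W e hW
    subst hW
    rw [Scheme.Hom.appLE_eq_app]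
    exact h
  refine key _ _ ?_
  rw [← Scheme.Hom.comp_preimage, proj_toBase]

/-- Every section comes from a stage. -/
theorem exists_proj_appLE_eq [CompactSpace V₀] [QuasiSeparatedSpace V₀] {Q : V₀.Opens} (hQ : IsAffineOpen Q)
    (x : Γ(V, π ⁻¹ᵁ Q)) :
    ∃ (N : Idx π) (y : Γ(stage π N, toBase π N ⁻¹ᵁ Q)),
      (proj π N).appLE (toBase π N ⁻¹ᵁ Q) (π ⁻¹ᵁ Q) (le_preimage (proj_toBase π N) Q) y = x := by
  let x' : Γ((alg π).toModule, Q) := x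
  obtain ⟨N₀, h₀, hs⟩ := SubLib.exists_good_section hQ x'
  obtain ⟨N', hN, hgood⟩ := SubLib.exists_good_qcqs hQ.isCompact h₀
  have hmem : x' ∈ SubLib.sec N' Q := fun z hz => by rw [hN z hz]; exact hs z hz
  obtain ⟨N, rfl⟩ : ∃ N : Idx π, N.1 = N' := ⟨⟨N', hgood⟩, rfl⟩
  let s : Γ(SubLib.subMod N.1, Q) := ⟨x', hmem⟩
  haveI := SpecQCAlg.isIso_gammaAff (sym π N) Q hQ
  obtain ⟨σ, hσ⟩ := (ConcreteCategory.bijective_of_isIso ((sym π N).gammaAff Q hQ)).2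
    (RelSpecLib.jsec (sym π N) (RelSpecLib.symJ (SubLib.subMod N.1)) s)
  have h2 : (toBundle π N).appLE ((sym π N).π ⁻¹ᵁ Q) (π ⁻¹ᵁ Q) (le_preimage (toBundle_π π N) Q) σ = x := by
    have h := RelSpecLib.gammaAff_algMap (sym π N) π (toBundle π N) (toBundle_π π N) Q hQ
    rw [show RelSpecLib.algMap (sym π N) π (toBundle π N) (toBundle_π π N) = (ev π N).hom from
      RelSpecLib.algMap_lift _ π (ev π N).hom (ev π N).comm] at h
    rw [← h, CommRingCat.comp_apply]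
    erw [hσ]
    exact congrArg (fun q : SubLib.subMod N.1 ⟶ (alg π).toModule => q.app Q s) (symJ_ev π N)
  refine ⟨N, (toBundle π N).imageι.app ((sym π N).π ⁻¹ᵁ Q) σ, ?_⟩
  refine Eq.trans ?_ h2
  show ((toBundle π N).imageι.app ((sym π N).π ⁻¹ᵁ Q) ≫ (toBundle π N).toImage.appLE _ (π ⁻¹ᵁ Q)
      (le_preimage (proj_toBase π N) Q)) σ = _
  refine congrArg (fun φ : Γ((sym π N).spec, (sym π N).π ⁻¹ᵁ Q) ⟶ Γ(V, π ⁻¹ᵁ Q) => φ σ) ?_
  have e1 := appLE_congr_hom (toBundle π N).toImage_imageι (U := (sym π N).π ⁻¹ᵁ Q) (W := π ⁻¹ᵁ Q)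
    (le_preimage (proj_toBase π N) Q)
  rw [← e1, Scheme.Hom.comp_appLE]

/-- A morphism over `V₀` of schemes affine over `V₀` is an isomorphism if it is bijective on sections. -/
theorem isIso_of_bijective_appLE {Z : Scheme.{u}} (φ : V ⟶ Z) (P : Z ⟶ V₀) [IsAffineHom P] (hφP : φ ≫ P = π)
    (hbij : ∀ Q : V₀.Opens, IsAffineOpen Q →
      Function.Bijective (φ.appLE (P ⁻¹ᵁ Q) (π ⁻¹ᵁ Q) (le_preimage hφP Q))) : IsIso φ := by
  refine (IsZariskiLocalAtTarget.iff_of_iSup_eq_top (P := MorphismProperty.isomorphisms Scheme.{u})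
    (fun Q : V₀.affineOpens => P ⁻¹ᵁ Q.1) ?_).2 fun Q => ?_
  · rw [← Scheme.Hom.preimage_iSup, iSup_affineOpens_eq_top, Scheme.Hom.preimage_top]
  haveI : IsAffine (P ⁻¹ᵁ Q.1).toScheme := Q.2.preimage P
  have e : φ ⁻¹ᵁ (P ⁻¹ᵁ Q.1) = π ⁻¹ᵁ Q.1 := by rw [← Scheme.Hom.comp_preimage, hφP]
  haveI : IsAffine (φ ⁻¹ᵁ (P ⁻¹ᵁ Q.1)).toScheme := by rw [e]; exact Q.2.preimage π
  show IsIso (φ ∣_ (P ⁻¹ᵁ Q.1))
  haveI : IsIso (φ ∣_ (P ⁻¹ᵁ Q.1)).appTop := by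
    rw [ConcreteCategory.isIso_iff_bijective, morphismRestrict_appTop]
    refine Function.Bijective.comp (g := V.presheaf.map _) (f := φ.app _) (ConcreteCategory.bijective_of_isIso _) ?_
    have key : ∀ (U : Z.Opens) (W : V.Opens) (h : W ≤ φ ⁻¹ᵁ U), W = φ ⁻¹ᵁ U →
        Function.Bijective (φ.appLE U W h) → Function.Bijective (φ.app U) := by
      intro U W h hW hb
      subst hW
      rwa [Scheme.Hom.appLE_eq_app] at hb
    have key2 : ∀ U : Z.Opens, U = P ⁻¹ᵁ Q.1 → Function.Bijective (φ.app U) := by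
      rintro U rfl
      exact key _ _ _ e.symm (hbij Q.1 Q.2)
    exact key2 _ (Scheme.Opens.ι_image_top _)
  exact (HasAffineProperty.iff_of_isAffine (P := MorphismProperty.isomorphisms Scheme.{u})).2
    ⟨inferInstance, inferInstance⟩

variable (L : Cone (sys π)) (hL : IsLimit L) (P : L.pt ⟶ V₀)
    (hP : ∀ N : (Idx π)ᵒᵖ, L.π.app N ≫ toBase π N.unop = P)

include hL in
/-- Sections of a limit of stages come from stages. -/
theorem exists_π_appLE_eq {Q : V₀.Opens} (hQ : IsAffineOpen Q) (z : Γ(L.pt, P ⁻¹ᵁ Q)) :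
    ∃ (N : (Idx π)ᵒᵖ) (y : Γ(stage π N.unop, toBase π N.unop ⁻¹ᵁ Q)),
      (L.π.app N).appLE (toBase π N.unop ⁻¹ᵁ Q) (P ⁻¹ᵁ Q) (le_preimage (hP N) Q) y = z := by
  let N₀ : (Idx π)ᵒᵖ := op (Classical.arbitrary (Idx π))
  obtain rfl : L.π.app N₀ ≫ toBase π N₀.unop = P := hP N₀
  haveI : ∀ {N N' : (Idx π)ᵒᵖ} (a : N ⟶ N'), IsAffineHom ((sys π).map a) := fun a => inferInstance
  let U₀ : ((sys π).obj N₀).Opens := toBase π N₀.unop ⁻¹ᵁ Q
  have hU₀ : IsAffineOpen U₀ := hQ.preimage (toBase π N₀.unop)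
  haveI : ∀ j : Over N₀, IsAffine ((opensDiagram (sys π) N₀ U₀).obj j) :=
    fun j => hU₀.preimage ((sys π).map j.hom)
  obtain ⟨j, t, ht⟩ := exists_appTop_π_eq_of_isAffine_of_isLimit _ _ (isLimitOpensCone (sys π) L hL N₀ U₀)
    ((L.π.app N₀ ⁻¹ᵁ U₀).topIso.inv z)
  have hle : toBase π j.left.unop ⁻¹ᵁ Q ≤ (sys π).map j.hom ⁻¹ᵁ U₀ := by
    have hb : (sys π).map j.hom ≫ toBase π N₀.unop = toBase π j.left.unop := map_toBase π (leOfHom j.hom.unop)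
    rw [← hb]
    exact le_rfl
  refine ⟨j.left, ((sys π).obj j.left).presheaf.map (homOfLE hle).op
    (((sys π).map j.hom ⁻¹ᵁ U₀).topIso.hom t), ?_⟩
  have h2 : (L.π.app N₀ ⁻¹ᵁ U₀).topIso.hom (((opensCone (sys π) L N₀ U₀).π.app j).appTop t) = z := by
    rw [ht, ← CommRingCat.comp_apply, Iso.inv_hom_id]
    rfl
  refine Eq.trans ?_ h2
  show ((((sys π).map j.hom ⁻¹ᵁ U₀).topIso.hom ≫ ((sys π).obj j.left).presheaf.map (homOfLE hle).op) ≫
    (L.π.app j.left).appLE (toBase π j.left.unop ⁻¹ᵁ Q) _ (le_preimage (hP j.left) Q)) t =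
    (((opensCone (sys π) L N₀ U₀).π.app j).appTop ≫ (L.π.app N₀ ⁻¹ᵁ U₀).topIso.hom) t
  refine congrFun (congrArg DFunLike.coe (congrArg CommRingCat.Hom.hom ?_)) t
  simp [opensCone, Scheme.Hom.resLE_appLE, Scheme.Hom.app_eq_appLE]
  rfl

theorem exists_π_appLE_map {Q : V₀.Opens} {M N : (Idx π)ᵒᵖ} (a : M ⟶ N)
    (y : Γ(stage π N.unop, toBase π N.unop ⁻¹ᵁ Q)) : ∃ w : Γ(stage π M.unop, toBase π M.unop ⁻¹ᵁ Q),
      (L.π.app M).appLE (toBase π M.unop ⁻¹ᵁ Q) (P ⁻¹ᵁ Q) (le_preimage (hP M) Q) w =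
        (L.π.app N).appLE (toBase π N.unop ⁻¹ᵁ Q) (P ⁻¹ᵁ Q) (le_preimage (hP N) Q) y := by
  have ha : (sys π).map a ≫ toBase π N.unop = toBase π M.unop := map_toBase π (leOfHom a.unop)
  exact ⟨((sys π).map a).appLE _ _ (le_preimage ha Q) y,
    appLE_appLE_apply (L.π.app M) ((sys π).map a) (L.π.app N) (L.w a) _ (le_preimage ha Q) _ y⟩

include hL hP in
theorem bijective_lift_appLE [CompactSpace V₀] [QuasiSeparatedSpace V₀] (φ : V ⟶ L.pt)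
    (hφ : ∀ N : (Idx π)ᵒᵖ, φ ≫ L.π.app N = proj π N.unop) (hφP : φ ≫ P = π) {Q : V₀.Opens} (hQ : IsAffineOpen Q) :
    Function.Bijective (φ.appLE (P ⁻¹ᵁ Q) (π ⁻¹ᵁ Q) (le_preimage hφP Q)) := by
  have hcomp : ∀ (N : (Idx π)ᵒᵖ) (y : Γ(stage π N.unop, toBase π N.unop ⁻¹ᵁ Q)),
      φ.appLE (P ⁻¹ᵁ Q) (π ⁻¹ᵁ Q) (le_preimage hφP Q)
        ((L.π.app N).appLE (toBase π N.unop ⁻¹ᵁ Q) (P ⁻¹ᵁ Q) (le_preimage (hP N) Q) y) =
      (proj π N.unop).appLE (toBase π N.unop ⁻¹ᵁ Q) (π ⁻¹ᵁ Q) (le_preimage (proj_toBase π N.unop) Q) y := by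
    exact fun N y => appLE_appLE_apply φ (L.π.app N) (proj π N.unop) (hφ N) _ _ _ y
  refine ⟨?_, fun x => ?_⟩
  · intro z z' hzz'
    obtain ⟨N, y, rfl⟩ := exists_π_appLE_eq π L hL P hP hQ z
    obtain ⟨N', y', rfl⟩ := exists_π_appLE_eq π L hL P hP hQ z'
    obtain ⟨M, a, b, -⟩ := IsCofilteredOrEmpty.cone_objs N N'
    obtain ⟨w, hw⟩ := exists_π_appLE_map π L P hP a y
    obtain ⟨w', hw'⟩ := exists_π_appLE_map π L P hP b y'
    rw [← hw, ← hw', hcomp, hcomp] at hzz'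
    rw [← hw, ← hw', proj_appLE_injective π M.unop hQ hzz']
  · obtain ⟨N, y, hy⟩ := exists_proj_appLE_eq π hQ x
    exact ⟨_, (hcomp (op N) y).trans hy⟩

/-- The limit. -/
theorem nonempty_isLimit_cone [CompactSpace V₀] [IsLocallyNoetherian V₀] : Nonempty (IsLimit (cone π)) := by
  haveI : ∀ {N N' : (Idx π)ᵒᵖ} (a : N ⟶ N'), IsAffineHom ((sys π).map a) := fun a => inferInstance
  haveI := AffLim.hasLimit (sys π)
  let L := limit.cone (sys π)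
  let hL : IsLimit L := limit.isLimit _
  let φ : V ⟶ L.pt := hL.lift (cone π)
  have hφ : ∀ N : (Idx π)ᵒᵖ, φ ≫ L.π.app N = proj π N.unop := fun N => hL.fac (cone π) N
  let N₀ : (Idx π)ᵒᵖ := op (Classical.arbitrary (Idx π))
  haveI : IsAffineHom (L.π.app N₀) := isAffineHom_π_app _ _ hL N₀
  let P : L.pt ⟶ V₀ := L.π.app N₀ ≫ toBase π N₀.unop
  have hP : ∀ N : (Idx π)ᵒᵖ, L.π.app N ≫ toBase π N.unop = P := fun N => by
    obtain ⟨M, a, b, -⟩ := IsCofilteredOrEmpty.cone_objs N N₀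
    have ha : (sys π).map a ≫ toBase π N.unop = toBase π M.unop := map_toBase π (leOfHom a.unop)
    have hb : (sys π).map b ≫ toBase π N₀.unop = toBase π M.unop := map_toBase π (leOfHom b.unop)
    show _ = L.π.app N₀ ≫ toBase π N₀.unop
    rw [← L.w a, ← L.w b, Category.assoc, Category.assoc, ha, hb]
  haveI : IsAffineHom P := inferInstanceAs (IsAffineHom (L.π.app N₀ ≫ toBase π N₀.unop))
  have hφP : φ ≫ P = π := by rw [← hP N₀, ← Category.assoc, hφ, proj_toBase]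
  haveI : IsIso φ := isIso_of_bijective_appLE π φ P hφP fun Q hQ =>
    bijective_lift_appLE π L hL P hP φ hφ hφP hQ
  exact ⟨IsLimit.ofIsoLimit hL (Cone.ext (asIso φ).symm fun N => ((asIso φ).eq_inv_comp).2 (hφ N))⟩

end Groth.Agent.NApproxLib
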