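import Groth.Agent.NApproxLib.Main

/-!
# Approximation of a morphism
-/

set_option autoImplicit false
set_option backward.isDefEq.respectTransparency false
set_option backward.defeqAttrib.useBackward true
set_option linter.style.haveILetI false
set_option linter.unusedSectionVars false

universe u

open CategoryTheory CategoryTheory.Limits AlgebraicGeometry Opposite

noncomputable section

namespace Groth.Agent.NApproxLib

section Pair

variable {A B : Type u} [Preorder A] [Preorder B] (DA : Aᵒᵖ ⥤ Scheme.{u}) (DB : Bᵒᵖ ⥤ Scheme.{u})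
  {X S : Scheme.{u}} (pA : (Functor.const Aᵒᵖ).obj X ⟶ DA) (pB : (Functor.const Bᵒᵖ).obj S ⟶ DB) (f : X ⟶ S)

/-- The index set of approximations of a morphism. -/
def Pair : Type u :=
  Σ ab : A × B, {h : DA.obj (op ab.1) ⟶ DB.obj (op ab.2) // pA.app (op ab.1) ≫ h = f ≫ pB.app (op ab.2)}

variable {DA DB pA pB f}

/-- The source index. -/
abbrev Pair.a (P : Pair DA DB pA pB f) : A := P.1.1

/-- The target index. -/
abbrev Pair.b (P : Pair DA DB pA pB f) : B := P.1.2

/-- The morphism at the stage. -/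
abbrev Pair.hom (P : Pair DA DB pA pB f) : DA.obj (op P.a) ⟶ DB.obj (op P.b) := P.2.1

theorem Pair.fac (P : Pair DA DB pA pB f) : pA.app (op P.a) ≫ P.hom = f ≫ pB.app (op P.b) := P.2.2

instance : Preorder (Pair DA DB pA pB f) where
  le P Q := ∃ (ha : P.a ≤ Q.a) (hb : P.b ≤ Q.b),
    DA.map (homOfLE ha).op ≫ P.hom = Q.hom ≫ DB.map (homOfLE hb).op
  le_refl P := ⟨le_rfl, le_rfl, by simp⟩
  le_trans P Q R := by
    rintro ⟨ha, hb, h⟩ ⟨ha', hb', h'⟩
    refine ⟨ha.trans ha', hb.trans hb', ?_⟩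
    rw [show (homOfLE (ha.trans ha')).op = (homOfLE ha').op ≫ (homOfLE ha).op from rfl,
      show (homOfLE (hb.trans hb')).op = (homOfLE hb').op ≫ (homOfLE hb).op from rfl, Functor.map_comp,
      Functor.map_comp, Category.assoc, h, reassoc_of% h']

/-- The functor to the source indices. -/
def Pair.fstFunctor : (Pair DA DB pA pB f)ᵒᵖ ⥤ Aᵒᵖ :=
  (Monotone.functor (f := fun P : Pair DA DB pA pB f => P.a) fun _ _ h => Exists.choose h).op

/-- The functor to the target indices. -/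
def Pair.sndFunctor : (Pair DA DB pA pB f)ᵒᵖ ⥤ Bᵒᵖ :=
  (Monotone.functor (f := fun P : Pair DA DB pA pB f => P.b) fun _ _ h => (Exists.choose_spec h).choose).op

variable (hA : IsLimit (Cone.mk X pA)) (hB : IsLimit (Cone.mk S pB))
  [∀ {i j : Aᵒᵖ} (g : i ⟶ j), IsAffineHom (DA.map g)] [∀ i, CompactSpace (DA.obj i)]
  [∀ i, QuasiSeparatedSpace (DA.obj i)] [IsDirected A (· ≤ ·)] [Nonempty A] [IsDirected B (· ≤ ·)] [Nonempty B]
  (hft : ∀ i, IsFTZ (DB.obj i))

include hA hft in
theorem Pair.exists_above (a₀ : A) (b : B) : ∃ P : Pair DA DB pA pB f, a₀ ≤ P.a ∧ P.b = b := by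
  haveI := hft (op b)
  haveI : IsNoetherianRing (CommRingCat.of (ULift.{u} ℤ)) := inferInstance
  haveI : LocallyOfFinitePresentation (IsTerminal.from specULiftZIsTerminal (DB.obj (op b))) := by
    infer_instance
  obtain ⟨i, g, hg, -⟩ := Scheme.exists_π_app_comp_eq_of_locallyOfFinitePresentation DA
    { app := fun i => IsTerminal.from specULiftZIsTerminal (DA.obj i)
      naturality := fun _ _ _ => specULiftZIsTerminal.hom_ext _ _ }
    (IsTerminal.from specULiftZIsTerminal (DB.obj (op b))) (Cone.mk X pA) hA (f ≫ pB.app (op b))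
    (by ext i; exact specULiftZIsTerminal.hom_ext _ _)
  obtain ⟨a, ha₀, hai⟩ := exists_ge_ge a₀ i.unop
  refine ⟨⟨(a, b), DA.map (homOfLE hai).op ≫ g, ?_⟩, ha₀, rfl⟩
  have h := pA.naturality (homOfLE hai).op
  simp only [Functor.const_obj_map, Category.id_comp] at h
  rw [← Category.assoc, ← h]
  exact hg

include hA hft in
theorem Pair.exists_le {b : B} {a : A} (g g' : DA.obj (op a) ⟶ DB.obj (op b))
    (h : pA.app (op a) ≫ g = pA.app (op a) ≫ g') :
    ∃ (a' : A) (ha : a ≤ a'), DA.map (homOfLE ha).op ≫ g = DA.map (homOfLE ha).op ≫ g' := by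
  haveI := hft (op b)
  obtain ⟨k, t, ht⟩ := Scheme.exists_hom_comp_eq_comp_of_locallyOfFiniteType DA
    { app := fun i => IsTerminal.from specULiftZIsTerminal (DA.obj i)
      naturality := fun _ _ _ => specULiftZIsTerminal.hom_ext _ _ }
    (IsTerminal.from specULiftZIsTerminal (DB.obj (op b))) (Cone.mk X pA) hA g g'
    (specULiftZIsTerminal.hom_ext _ _) (specULiftZIsTerminal.hom_ext _ _) h
  exact ⟨k.unop, leOfHom t.unop, ht⟩

include hA hft in
theorem Pair.isDirected : IsDirected (Pair DA DB pA pB f) (· ≤ ·) := by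
  refine ⟨fun P Q => ?_⟩
  obtain ⟨b, hPb, hQb⟩ := exists_ge_ge P.b Q.b
  obtain ⟨a₀, hPa, hQa⟩ := exists_ge_ge P.a Q.a
  obtain ⟨R, haR, rfl⟩ := Pair.exists_above (f := f) (pB := pB) hA hft a₀ b
  have key : ∀ (P' : Pair DA DB pA pB f) (ha : P'.a ≤ R.a) (hb : P'.b ≤ R.b), ∃ (a' : A) (ha' : R.a ≤ a'),
      DA.map (homOfLE ha').op ≫ DA.map (homOfLE ha).op ≫ P'.hom =
        DA.map (homOfLE ha').op ≫ R.hom ≫ DB.map (homOfLE hb).op := fun P' ha hb => by
    refine Pair.exists_le hA hft _ _ ?_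
    have h1 := pA.naturality (homOfLE ha).op
    have h2 := pB.naturality (homOfLE hb).op
    simp only [Functor.const_obj_map] at h1 h2
    erw [Category.id_comp] at h1 h2
    rw [← reassoc_of% h1, P'.fac, reassoc_of% R.fac, ← h2]
  obtain ⟨a₁, h₁, e₁⟩ := key P (hPa.trans haR) hPb
  obtain ⟨a₂, h₂, e₂⟩ := key Q (hQa.trans haR) hQb
  obtain ⟨a, ha₁, ha₂⟩ := exists_ge_ge a₁ a₂
  let R' : Pair DA DB pA pB f := ⟨(a, R.b), DA.map (homOfLE (h₁.trans ha₁)).op ≫ R.hom, by
    have h := pA.naturality (homOfLE (h₁.trans ha₁)).op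
    simp only [Functor.const_obj_map, Category.id_comp] at h
    rw [← Category.assoc, ← h]
    exact R.fac⟩
  refine ⟨R', ⟨(hPa.trans haR).trans (h₁.trans ha₁), hPb, ?_⟩, ⟨(hQa.trans haR).trans (h₁.trans ha₁), hQb, ?_⟩⟩
  · show _ = (DA.map (homOfLE (h₁.trans ha₁)).op ≫ R.hom) ≫ _
    simpa only [← Category.assoc, ← Functor.map_comp, ← op_comp, homOfLE_comp] using congrArg (DA.map (homOfLE ha₁).op ≫ ·) e₁
  · show _ = (DA.map (homOfLE (h₁.trans ha₁)).op ≫ R.hom) ≫ _
    simpa only [← Category.assoc, ← Functor.map_comp, ← op_comp, homOfLE_comp] using congrArg (DA.map (homOfLE ha₂).op ≫ ·) e₂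

include hA hft in
theorem Pair.nonempty : Nonempty (Pair DA DB pA pB f) :=
  ⟨(Pair.exists_above hA hft (Classical.arbitrary A) (Classical.arbitrary B)).choose⟩

include hA hft in
theorem Pair.initial_fst : (Pair.fstFunctor (DA := DA) (DB := DB) (pA := pA) (pB := pB) (f := f)).Initial := by
  haveI := Pair.isDirected (f := f) (pB := pB) hA hft
  refine Functor.initial_of_exists_of_isCofiltered _ (fun d => ?_) (fun {d c} s s' => ⟨c, 𝟙 c, Subsingleton.elim _ _⟩)
  obtain ⟨P, hP, -⟩ := Pair.exists_above (f := f) (pB := pB) hA hft d.unop (Classical.arbitrary B)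
  exact ⟨op P, ⟨(homOfLE hP).op⟩⟩

include hA hft in
theorem Pair.initial_snd : (Pair.sndFunctor (DA := DA) (DB := DB) (pA := pA) (pB := pB) (f := f)).Initial := by
  haveI := Pair.isDirected (f := f) (pB := pB) hA hft
  refine Functor.initial_of_exists_of_isCofiltered _ (fun d => ?_) (fun {d c} s s' => ⟨c, 𝟙 c, Subsingleton.elim _ _⟩)
  obtain ⟨P, -, hP⟩ := Pair.exists_above (f := f) (pB := pB) hA hft (Classical.arbitrary A) d.unop
  exact ⟨op P, ⟨(homOfLE hP.ge).op⟩⟩

variable (DA DB pA pB f) in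
/-- The natural transformation at the stages. -/
def Pair.nat : Pair.fstFunctor (DA := DA) (DB := DB) (pA := pA) (pB := pB) (f := f) ⋙ DA ⟶
    Pair.sndFunctor ⋙ DB where
  app P := P.unop.hom
  naturality P Q g := (leOfHom g.unop).2.2

end Pair

/-- Every morphism of qcqs schemes is a limit of morphisms of schemes of finite type over the integers. -/
theorem exists_arrow_limit {X S : Scheme.{u}} (f : X ⟶ S) [CompactSpace X] [QuasiSeparatedSpace X] [CompactSpace S]
    [QuasiSeparatedSpace S] :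
    ∃ (J : Type u) (_ : Preorder J) (_ : IsDirected J (fun a b => a ≤ b)) (_ : Nonempty J)
      (DX DS : Jᵒᵖ ⥤ Scheme.{u}) (φ : DX ⟶ DS) (pX : (Functor.const Jᵒᵖ).obj X ⟶ DX)
      (pS : (Functor.const Jᵒᵖ).obj S ⟶ DS) (_ : IsLimit (Cone.mk X pX)) (_ : IsLimit (Cone.mk S pS)),
      (∀ (i j : Jᵒᵖ) (a : i ⟶ j), IsAffineHom (DX.map a) ∧ IsAffineHom (DS.map a)) ∧
      (∀ i, CompactSpace (DX.obj i) ∧ CompactSpace (DS.obj i) ∧ IsFTZ (DX.obj i) ∧ IsFTZ (DS.obj i)) ∧
      ∀ i, pX.app i ≫ φ.app i = f ≫ pS.app i := by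
  obtain ⟨X₀, qX, hqX, hcX, hfX⟩ := hasFTZ X
  obtain ⟨S₀, qS, hqS, hcS, hfS⟩ := hasFTZ S
  haveI := hqX
  haveI := hcX
  haveI := hqS
  haveI := hcS
  haveI := isLocallyNoetherian_of_isFTZ hfX
  haveI := isLocallyNoetherian_of_isFTZ hfS
  obtain ⟨hA⟩ := nonempty_isLimit_cone qX
  obtain ⟨hB⟩ := nonempty_isLimit_cone qS
  haveI : ∀ i, CompactSpace ((sys qX).obj i) := fun i => compactSpace_stage qX i.unop
  haveI : ∀ i, QuasiSeparatedSpace ((sys qX).obj i) := fun i => quasiSeparatedSpace_stage qX i.unop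
  haveI : ∀ {i j} (g : i ⟶ j), IsAffineHom ((sys qX).map g) := fun g => inferInstance
  have hft : ∀ i, IsFTZ ((sys qS).obj i) := fun i => isFTZ_stage qS hfS i.unop
  let P := Pair (sys qX) (sys qS) (cone qX).π (cone qS).π f
  haveI := Pair.initial_fst (DB := sys qS) (pB := (cone qS).π) (f := f) hA hft
  haveI := Pair.initial_snd (DB := sys qS) (pB := (cone qS).π) (f := f) hA hft
  exact ⟨P, inferInstance, Pair.isDirected hA hft, Pair.nonempty hA hft, Pair.fstFunctor ⋙ sys qX,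
    Pair.sndFunctor ⋙ sys qS, Pair.nat _ _ _ _ _, Functor.whiskerLeft Pair.fstFunctor (cone qX).π,
    Functor.whiskerLeft Pair.sndFunctor (cone qS).π,
    (Functor.Initial.isLimitWhiskerEquiv Pair.fstFunctor (cone qX)).symm hA,
    (Functor.Initial.isLimitWhiskerEquiv Pair.sndFunctor (cone qS)).symm hB,
    fun i j a => ⟨inferInstanceAs (IsAffineHom ((sys qX).map (Pair.fstFunctor.map a))),
      inferInstanceAs (IsAffineHom ((sys qS).map (Pair.sndFunctor.map a)))⟩,
    fun i => ⟨compactSpace_stage qX _, compactSpace_stage qS _, isFTZ_stage qX hfX _, isFTZ_stage qS hfS _⟩,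
    fun i => i.unop.fac⟩

end Groth.Agent.NApproxLib
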