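import Groth.Agent.NApproxLib.Image
import Groth.Agent.RelSpecLib.SymData
import Groth.Agent.RelSpecLib.Basic
import Groth.Agent.FPApproxLib.FiniteModel
import Groth.Agent.SubLib.ExtendWO

/-!
# The stages of finite type under an affine morphism to a noetherian scheme
-/

set_option autoImplicit false
set_option backward.isDefEq.respectTransparency false
set_option backward.defeqAttrib.useBackward true
set_option linter.style.haveILetI false
set_option linter.unusedSectionVars false

universe u

open CategoryTheory CategoryTheory.Limits AlgebraicGeometry TopologicalSpace Opposite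

noncomputable section

namespace Groth.Agent.NApproxLib

variable {V V₀ : Scheme.{u}} (π : V ⟶ V₀) [IsAffineHom π]

/-- The direct image algebra. -/
abbrev alg : RelSpec.QCAlg V₀ := RelSpec.QCAlg.directImage π

/-- Finite type submodules of the direct image. -/
def Idx : Type u := {N : SubLib.StalkSub (alg π).toModule // SubLib.Good N ⊤}

instance : PartialOrder (Idx π) := inferInstanceAs (PartialOrder {N : SubLib.StalkSub (alg π).toModule // SubLib.Good N ⊤})

instance : IsDirected (Idx π) (· ≤ ·) :=
  ⟨fun a b => ⟨⟨fun z => a.1 z ⊔ b.1 z, ProjBundleLib.good_sup a.2 b.2⟩, fun _ => le_sup_left, fun _ => le_sup_right⟩⟩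

instance : Coh.IsQCoh (alg π).toModule := ProjBundleLib.isQCoh_toModule _

instance : Nonempty (Idx π) :=
  ⟨⟨fun _ => ⊥, fun x _ => by
    obtain ⟨_, ⟨W, hW, rfl⟩, hxW, -⟩ :=
      V₀.isBasis_affineOpens.exists_subset_of_mem_open (Set.mem_univ x) isOpen_univ
    exact ⟨W, hW, hxW, le_top, ∅, fun y hy => by simp⟩⟩⟩

theorem genOn (N : Idx π) (x : V₀) : ∃ W : V₀.Opens, IsAffineOpen W ∧ x ∈ W ∧ SubLib.GenOn N.1 W := by
  obtain ⟨W, hW, hx, -, h⟩ := N.2 x trivial
  exact ⟨W, hW, hx, h⟩

instance isQCoh_sub (N : Idx π) : Coh.IsQCoh (SubLib.subMod N.1) := SubLib.isQCoh_subMod N.1 (genOn π N)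

/-- The inclusion of submodules. -/
def incl {N N' : Idx π} (h : N ≤ N') : SubLib.subMod N.1 ⟶ SubLib.subMod N'.1 where
  val := PresheafOfModules.homMk
    { app := fun U => AddCommGrpCat.ofHom
        { toFun := fun s => ⟨Subtype.val (p := fun s => s ∈ SubLib.sec N.1 U.unop) s,
            fun z hz => h z (Subtype.prop (p := fun s => s ∈ SubLib.sec N.1 U.unop) s z hz)⟩
          map_zero' := rfl
          map_add' := fun _ _ => rfl }
      naturality := fun U V i => rfl }
    fun U r s => rfl

theorem incl_subι {N N' : Idx π} (h : N ≤ N') : incl π h ≫ SubLib.subι N'.1 = SubLib.subι N.1 := rfl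

/-- The symmetric algebra of a submodule. -/
abbrev sym (N : Idx π) : RelSpec.QCAlg V₀ := RelSpecLib.symAlg (SubLib.subMod N.1)

/-- Its map to the direct image. -/
def ev (N : Idx π) : sym π N ⟶ alg π :=
  (RelSpecLib.isSymAlg_symAlg (SubLib.subMod N.1) (alg π) (SubLib.subι N.1)).choose

theorem symJ_ev (N : Idx π) :
    RelSpecLib.symJ (SubLib.subMod N.1) ≫ RelSpec.QCAlg.Hom.toModuleMap (ev π N) = SubLib.subι N.1 :=
  (RelSpecLib.isSymAlg_symAlg (SubLib.subMod N.1) (alg π) (SubLib.subι N.1)).choose_spec.1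

/-- The map to the bundle. -/
def toBundle (N : Idx π) : V ⟶ (sym π N).spec := RelSpecLib.lift (sym π N) π (ev π N).hom

theorem toBundle_π (N : Idx π) : toBundle π N ≫ (sym π N).π = π := RelSpecLib.lift_π _ _ _ (ev π N).comm

instance (N : Idx π) : QuasiCompact (toBundle π N) := by
  haveI : QuasiCompact (toBundle π N ≫ (sym π N).π) := by rw [toBundle_π]; infer_instance
  exact QuasiCompact.of_comp _ (sym π N).π

/-- The stage. -/
abbrev stage (N : Idx π) : Scheme.{u} := (toBundle π N).image

/-- The structure map of a stage. -/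
def toBase (N : Idx π) : stage π N ⟶ V₀ := (toBundle π N).imageι ≫ (sym π N).π

instance (N : Idx π) : IsAffineHom (toBase π N) :=
  inferInstanceAs (IsAffineHom ((toBundle π N).imageι ≫ (sym π N).π))

/-- The projection to a stage. -/
def proj (N : Idx π) : V ⟶ stage π N := (toBundle π N).toImage

theorem proj_toBase (N : Idx π) : proj π N ≫ toBase π N = π := by
  show (toBundle π N).toImage ≫ (toBundle π N).imageι ≫ _ = π
  rw [Scheme.Hom.toImage_imageι_assoc, toBundle_π]

theorem hom_ext' {N : Idx π} {W : Scheme.{u}} (p : W ⟶ V₀) [IsSeparated p] {a b : stage π N ⟶ W}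
    (hp : a ≫ p = b ≫ p) (h : proj π N ≫ a = proj π N ≫ b) : a = b :=
  image_hom_ext (toBundle π N) p a b hp h

theorem exists_map {N N' : Idx π} (h : N ≤ N') :
    ∃ t : stage π N' ⟶ stage π N, t ≫ toBase π N = toBase π N' ∧ proj π N' ≫ t = proj π N := by
  obtain ⟨θ, hθ, -⟩ := RelSpecLib.isSymAlg_symAlg (SubLib.subMod N.1) (sym π N')
    (incl π h ≫ RelSpecLib.symJ (SubLib.subMod N'.1))
  have hθev : θ ≫ ev π N' = ev π N := by
    refine (RelSpecLib.isSymAlg_symAlg (SubLib.subMod N.1) (alg π) (SubLib.subι N.1)).choose_spec.2 _ ?_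
    show RelSpecLib.symJ (SubLib.subMod N.1) ≫ RelSpec.QCAlg.Hom.toModuleMap θ ≫
      RelSpec.QCAlg.Hom.toModuleMap (ev π N') = _
    rw [reassoc_of% hθ, symJ_ev, incl_subι]
  have hg : toBundle π N' ≫ RelSpec.QCAlg.specMap θ = toBundle π N := by
    rw [toBundle, RelSpecLib.lift_specMap, ← RelSpec.QCAlg.comp_hom, hθev]
    rfl
  obtain ⟨t, ht, ht'⟩ := exists_image_map (toBundle π N) (toBundle π N') (RelSpec.QCAlg.specMap θ) hg
  refine ⟨t, ?_, ht'⟩
  show t ≫ (toBundle π N).imageι ≫ _ = (toBundle π N').imageι ≫ _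
  rw [← Category.assoc, ht, Category.assoc, RelSpec.QCAlg.specMap_π]

/-- A transition map. -/
def map {N N' : Idx π} (h : N ≤ N') : stage π N' ⟶ stage π N := (exists_map π h).choose

theorem map_toBase {N N' : Idx π} (h : N ≤ N') : map π h ≫ toBase π N = toBase π N' := (exists_map π h).choose_spec.1

theorem proj_map {N N' : Idx π} (h : N ≤ N') : proj π N' ≫ map π h = proj π N := (exists_map π h).choose_spec.2

theorem map_trans {N N' N'' : Idx π} (h : N ≤ N') (h' : N' ≤ N'') (h'' : N ≤ N'') :
    map π h'' = map π h' ≫ map π h :=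
  hom_ext' π (toBase π N) (by rw [map_toBase, Category.assoc, map_toBase, map_toBase])
    (by rw [proj_map, ← Category.assoc, proj_map, proj_map])

theorem map_self {N : Idx π} (h : N ≤ N) : map π h = 𝟙 (stage π N) :=
  hom_ext' π (toBase π N) (by rw [map_toBase, Category.id_comp]) (by rw [proj_map, Category.comp_id])

/-- The system of stages. -/
@[reducible]
def sys : (Idx π)ᵒᵖ ⥤ Scheme.{u} where
  obj N := stage π N.unop
  map {N N'} a := map π (leOfHom a.unop)
  map_id N := map_self π _
  map_comp {N N' N''} a b := map_trans π _ _ _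

instance {N N' : (Idx π)ᵒᵖ} (a : N ⟶ N') : IsAffineHom ((sys π).map a) := by
  haveI : IsAffineHom (map π (leOfHom a.unop) ≫ toBase π N'.unop) := by rw [map_toBase]; infer_instance
  show IsAffineHom (map π (leOfHom a.unop))
  exact IsAffineHom.of_comp (map π (leOfHom a.unop)) (toBase π N'.unop)

/-- The cone. -/
def cone : Cone (sys π) where
  pt := V
  π :=
    { app := fun N => proj π N.unop
      naturality := fun N N' a => by
        show 𝟙 V ≫ proj π N'.unop = proj π N.unop ≫ map π (leOfHom a.unop)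
        rw [Category.id_comp, proj_map] }

theorem locallyOfFiniteType_toBase [IsLocallyNoetherian V₀] (N : Idx π) : LocallyOfFiniteType (toBase π N) := by
  haveI : LocallyOfFinitePresentation (sym π N).π :=
    FPApproxLib.lfp_π_symAlg _ (QCohLib.isFP_of_isCoh _ ⟨inferInstance, SubLib.isFT_subMod N.1 (genOn π N)⟩)
  exact inferInstanceAs (LocallyOfFiniteType ((toBundle π N).imageι ≫ (sym π N).π))

end Groth.Agent.NApproxLib
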